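import Cfsg.Agent.Lib.Walter8.Quot
import Mathlib.GroupTheory.GroupAction.Quotient

/-!
The action of the normaliser of an elementary abelian Sylow 2-subgroup of order 8, transitive on its
involutions: what centralises it and what is transitive on it.
-/

set_option autoImplicit false
set_option linter.unusedSectionVars false
set_option linter.style.haveILetI false

namespace Cfsg.Agent.AllAbelian

open Subgroup
open Cfsg.Agent.Walter8 (Eight cen)

universe u

variable {G : Type u} [Group G] [Finite G] {S : Sylow 2 G}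

theorem twoEl_mem {u : G} (hu : ClosedAbelian.TwoEl u) (hN : u ∈ normalizer ((S : Subgroup G) : Set G)) :
    u ∈ (S : Subgroup G) := by
  haveI : Fact (Nat.Prime 2) := ⟨Nat.prime_two⟩
  have h1 := S.is_maximal' (IsPGroup.to_sup_of_normal_right' hu.isPGroup S.2 (zpowers_le.2 hN)) le_sup_right
  exact h1 ▸ le_sup_left (a := zpowers u) (mem_zpowers u)

variable (hE : Eight (S : Subgroup G))
include hE

theorem mem_centralizer_S {u : G} (hu : u ∈ (S : Subgroup G)) :
    u ∈ centralizer ((S : Subgroup G) : Set G) :=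
  mem_centralizer_iff.2 fun _ hs => hE.comm hs hu

/-- The automiser has odd order. -/
theorem mem_centralizer_of_sq {g : G} (hg : g ∈ normalizer ((S : Subgroup G) : Set G))
    (h2 : g * g ∈ centralizer ((S : Subgroup G) : Set G)) :
    g ∈ centralizer ((S : Subgroup G) : Set G) := by
  obtain ⟨u, v, rfl, hu, hv, hut, hvo⟩ := ClosedAbelian.exists_parts g
  have huS := twoEl_mem hut (zpowers_le.2 hg hu)
  obtain ⟨i, hi⟩ := mem_zpowers_iff.1 hu
  obtain ⟨j, hj⟩ := mem_zpowers_iff.1 hv
  have hc : u * v = v * u := by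
    have h := (Commute.zpow_zpow_self (u * v) i j).eq
    rwa [hi, hj] at h
  have huu : u * u = 1 := hE.sq u huS
  have e : u * v * (u * v) = v * v := by
    calc u * v * (u * v) = u * (v * u) * v := by group
      _ = u * u * (v * v) := by rw [← hc]; group
      _ = v * v := by rw [huu, one_mul]
  rw [e] at h2
  exact mul_mem (mem_centralizer_S hE huS) (ClosedAbelian.mem_of_sq_mem h2 hvo)

/-- Whoever fixes two involutions centralises the subgroup. -/
theorem mem_centralizer_of_fix {a b g : G} (ha : a ∈ (S : Subgroup G)) (hb : b ∈ (S : Subgroup G))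
    (ha1 : a ≠ 1) (hb1 : b ≠ 1) (hab : a ≠ b) (hg : g ∈ normalizer ((S : Subgroup G) : Set G))
    (hga : g * a = a * g) (hgb : g * b = b * g) :
    g ∈ centralizer ((S : Subgroup G) : Set G) := by
  classical
  set S' : Subgroup G := (S : Subgroup G) with hS'
  set V : Subgroup G := S' ⊓ cen g with hV
  have hVmem : ∀ x, x ∈ V ↔ x ∈ S' ∧ x * g = g * x := fun x => by
    rw [hV, Subgroup.mem_inf, mem_centralizer_singleton_iff]
  have haV : a ∈ V := (hVmem a).2 ⟨ha, hga.symm⟩
  have hbV : b ∈ V := (hVmem b).2 ⟨hb, hgb.symm⟩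
  have hle : V.subgroupOf S' = ⊤ ∨ (V.subgroupOf S').index = 2 := by
    have h4 : 4 ≤ Nat.card (V.subgroupOf S') := by
      rw [Nat.card_congr (subgroupOfEquivOfLe inf_le_left).toEquiv]
      have h1 : ({1, a, b, a * b} : Finset G).card ≤ Nat.card V := by
        rw [← SetLike.coe_sort_coe, Nat.card_coe_set_eq, ← Set.ncard_coe_finset]
        refine Set.ncard_le_ncard ?_ (Set.toFinite _)
        intro x hx
        simp only [Finset.coe_insert, Finset.coe_singleton, Set.mem_insert_iff, Set.mem_singleton_iff] at hx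
        rcases hx with rfl | rfl | rfl | rfl
        exacts [one_mem _, haV, hbV, mul_mem haV hbV]
      refine le_trans ?_ h1
      have hab1 : a * b ≠ 1 := fun e => hab (by
        rw [← mul_one a, ← hE.sq b hb, ← mul_assoc, e, one_mul])
      rw [Finset.card_insert_of_notMem, Finset.card_insert_of_notMem, Finset.card_pair]
      · intro e; exact ha1 (mul_eq_right.1 e.symm)
      · simp only [Finset.mem_insert, Finset.mem_singleton, not_or]
        exact ⟨hab, fun e => hb1 (mul_eq_left.1 e.symm)⟩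
      · simp only [Finset.mem_insert, Finset.mem_singleton, not_or]
        exact ⟨Ne.symm ha1, Ne.symm hb1, Ne.symm hab1⟩
    have h8 := (V.subgroupOf S').card_mul_index
    rw [show Nat.card S' = 8 from hE.card] at h8
    rcases Nat.lt_or_ge (V.subgroupOf S').index 2 with h | h
    · refine Or.inl (index_eq_one.1 ?_)
      have : (V.subgroupOf S').index ≠ 0 := index_ne_zero_of_finite
      omega
    · refine Or.inr (le_antisymm ?_ h)
      nlinarith
  refine mem_centralizer_of_sq hE hg (mem_centralizer_iff.2 fun s hs => ?_)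
  rcases hle with hle | hle
  · have h : (⟨s, hs⟩ : S') ∈ V.subgroupOf S' := hle.symm ▸ mem_top _
    have h' := ((hVmem s).1 h).2
    rw [← mul_assoc, h', mul_assoc, h', ← mul_assoc]
  by_cases hsV : s ∈ V
  · have h' := ((hVmem s).1 hsV).2
    rw [← mul_assoc, h', mul_assoc, h', ← mul_assoc]
  have hgs : g * s * g⁻¹ ∈ S' := (mem_normalizer_iff.1 hg s).1 hs
  have hnot : g * s * g⁻¹ ∉ V := fun h => by
    have h' := ((hVmem _).1 h).2
    refine hsV ((hVmem s).2 ⟨hs, ?_⟩)
    have h'' : g * s = g * (g * s * g⁻¹) := by rw [← h']; group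
    exact eq_mul_inv_iff_mul_eq.1 (mul_left_cancel h'')
  set w := s * (g * s * g⁻¹) with hw
  have hwV : w ∈ V := by
    have := (mul_mem_iff_of_index_two hle (a := ⟨s, hs⟩) (b := ⟨g * s * g⁻¹, hgs⟩)).2
      ⟨fun h => absurd h hsV, fun h => absurd h hnot⟩
    exact this
  have hwc : g * w * g⁻¹ = w := by rw [← ((hVmem w).1 hwV).2, mul_inv_cancel_right]
  have e1 : g * s * g⁻¹ = s * w := by rw [hw, ← mul_assoc, hE.sq s hs, one_mul]
  have e2 : g * g * s * (g * g)⁻¹ = s := by
    calc g * g * s * (g * g)⁻¹ = g * (g * s * g⁻¹) * g⁻¹ := by group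
      _ = g * (s * w) * g⁻¹ := by rw [e1]
      _ = g * s * g⁻¹ * (g * w * g⁻¹) := by group
      _ = s := by rw [hwc, e1, mul_assoc, hE.sq w (hVmem w |>.1 hwV).1, mul_one]
  exact (mul_inv_eq_iff_eq_mul.1 e2).symm

/-- Elements of order a power of `p ≥ 5` fixing an involution, or `p ≠ 7`, centralise. -/
theorem mem_centralizer_of_pElement {p : ℕ} [Fact p.Prime] (h5 : 5 ≤ p) {g : G} {k : ℕ}
    (hg : g ^ p ^ k = 1) (hgN : g ∈ normalizer ((S : Subgroup G) : Set G))
    (h7 : p ≠ 7 ∨ ∃ a ∈ (S : Subgroup G), a ≠ 1 ∧ g * a = a * g) :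
    g ∈ centralizer ((S : Subgroup G) : Set G) := by
  classical
  set S' : Subgroup G := (S : Subgroup G) with hS'
  set Z := zpowers g
  let φ : Z →* MulAut S' := (normalizerMonoidHom S').comp (inclusion (zpowers_le.2 hgN))
  letI : MulAction Z S' := MulAction.compHom S' φ
  have hZ : IsPGroup p Z := by
    obtain ⟨i, -, hi⟩ := (Nat.dvd_prime_pow (Fact.out : p.Prime)).1 (orderOf_dvd_of_pow_eq_one hg)
    exact IsPGroup.of_card (n := i) (by rw [Nat.card_zpowers, hi])
  have hfp := hZ.card_modEq_card_fixedPoints S'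
  set U : Subgroup G := S' ⊓ cen g with hU
  have hUmem : ∀ x, x ∈ U ↔ x ∈ S' ∧ x * g = g * x := fun x => by
    rw [hU, Subgroup.mem_inf, mem_centralizer_singleton_iff]
  have hiff : ∀ s : S', s ∈ MulAction.fixedPoints Z S' ↔ (s : G) ∈ U := by
    intro s
    rw [MulAction.mem_fixedPoints, hUmem]
    constructor
    · intro h
      refine ⟨s.2, ?_⟩
      have h' : g * (s : G) * g⁻¹ = (s : G) := congrArg Subtype.val (h ⟨g, mem_zpowers g⟩)
      exact (mul_inv_eq_iff_eq_mul.1 h').symm
    · rintro ⟨-, h⟩ ⟨z, hz⟩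
      obtain ⟨i, rfl⟩ := mem_zpowers_iff.1 hz
      refine Subtype.ext ?_
      show g ^ i * (s : G) * (g ^ i)⁻¹ = (s : G)
      rw [← ((show Commute (s : G) g from h).zpow_right i).eq, mul_inv_cancel_right]
  have hcard : Nat.card (MulAction.fixedPoints Z S') = Nat.card U :=
    Nat.card_congr ((Equiv.subtypeEquivRight hiff).trans
      { toFun := fun s => ⟨(s.1 : G), s.2⟩
        invFun := fun s => ⟨⟨s.1, ((hUmem _).1 s.2).1⟩, s.2⟩
        left_inv := fun _ => rfl
        right_inv := fun _ => rfl })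
  rw [hcard, show Nat.card S' = 8 from hE.card] at hfp
  obtain ⟨j, hj, hj'⟩ := (Nat.dvd_prime_pow Nat.prime_two).1
    (show Nat.card U ∣ 2 ^ 3 from (card_dvd_of_le (inf_le_left : U ≤ S')).trans (dvd_of_eq (hE.card.trans (by norm_num))))
  suffices h : Nat.card U = 8 by
    have hUS : U = S' := eq_of_le_of_card_ge inf_le_left (by rw [h]; exact hE.card.le)
    exact mem_centralizer_iff.2 fun s hs => ((hUmem s).1 (hUS.symm ▸ hs)).2
  have hp := (Fact.out : p.Prime)
  have hd : p ∣ 8 - Nat.card U := (Nat.modEq_iff_dvd' (by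
    rw [hj']; exact (Nat.pow_le_pow_right (by norm_num) hj).trans (le_of_eq (by norm_num)))).1 hfp.symm
  interval_cases j
  · exfalso
    rw [hj'] at hd
    norm_num at hd
    have hp7 : p = 7 := (Nat.prime_dvd_prime_iff_eq hp (by norm_num)).1 hd
    obtain ⟨a, ha, ha1, hga⟩ := h7.resolve_left (not_not.2 hp7)
    have hU1 : U = ⊥ := by rw [← Subgroup.card_eq_one, hj', pow_zero]
    exact ha1 ((mem_bot).1 (hU1 ▸ (hUmem a).2 ⟨ha, hga.symm⟩))
  · exfalso
    rw [hj'] at hd
    norm_num at hd
    have : p ≤ 6 := Nat.le_of_dvd (by norm_num) hd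
    rcases (show p = 5 ∨ p = 6 by omega) with rfl | rfl
    · norm_num at hd
    · exact absurd hp (by decide)
  · exfalso
    rw [hj'] at hd
    norm_num at hd
    have : p ≤ 4 := Nat.le_of_dvd (by norm_num) hd
    omega
  · rw [hj']; norm_num

/-- A normal subgroup of the normaliser fixing an involution but not centralising is transitive, and
what it induces on it has order divisible by 7. -/
theorem transitive_of_moves {a : G} (ha : a ∈ (S : Subgroup G)) (ha1 : a ≠ 1) (M : Subgroup G)
    (hMn : ∀ n ∈ normalizer ((S : Subgroup G) : Set G), ∀ m ∈ M, n * m * n⁻¹ ∈ M)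
    (hMN : M ≤ normalizer ((S : Subgroup G) : Set G)) {y : G} (hy : y ∈ M)
    (hyc : y ∉ centralizer ((S : Subgroup G) : Set G)) :
    (∀ b ∈ (S : Subgroup G), b ≠ 1 → ∃ m ∈ M, m * a * m⁻¹ = b) ∧
      7 ∣ (centralizer ((S : Subgroup G) : Set G)).relIndex M := by
  classical
  set S' : Subgroup G := (S : Subgroup G) with hS'
  set N := normalizer (S' : Set G)
  letI : MulAction N S' := MulAction.compHom S' (normalizerMonoidHom S')
  have hsmul : ∀ (n : N) (s : S'), ((n • s : S') : G) = n * s * (n : G)⁻¹ := fun _ _ => rfl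
  set a' : S' := ⟨a, ha⟩
  set M' := M.subgroupOf N
  haveI : M'.Normal := ⟨fun m hm n => mem_subgroupOf.2 (hMn n n.2 m (mem_subgroupOf.1 hm))⟩
  set H := MulAction.stabilizer N a'
  have horb : MulAction.orbit N a' = {s : S' | s ≠ 1} := by
    ext s
    constructor
    · rintro ⟨n, rfl⟩ h
      exact ha1 (conj_eq_one_iff.1 ((hsmul n a').symm.trans (congrArg Subtype.val h)))
    · intro hs
      obtain ⟨g, hg, e⟩ := hE.trans a ha ha1 s s.2 fun h => hs (Subtype.ext h)
      exact ⟨⟨g, hg⟩, Subtype.ext e⟩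
  have h7 : (MulAction.orbit N a').ncard = 7 := by
    rw [horb, show {s : S' | s ≠ 1} = ({1} : Set S')ᶜ from rfl, Set.ncard_compl, Set.ncard_singleton,
      show Nat.card S' = 8 from hE.card]
  have hidx : H.index = 7 := by rw [MulAction.index_stabilizer, h7]
  have hJ : (H ⊔ M').index ∣ 7 := hidx ▸ index_dvd_of_le le_sup_left
  have htop : H ⊔ M' = ⊤ := by
    rcases (Nat.dvd_prime (by norm_num : (7 : ℕ).Prime)).1 hJ with h | h
    · exact index_eq_one.1 h
    exfalso
    have hle : M' ≤ H := by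
      have e : H = H ⊔ M' := eq_of_le_of_card_ge le_sup_left (by
        have h1 := H.card_mul_index
        have h2 := (H ⊔ M').card_mul_index
        rw [hidx] at h1; rw [h] at h2
        omega)
      exact e.symm ▸ le_sup_right
    refine hyc (mem_centralizer_iff.2 fun s hs => ?_)
    by_cases hs1 : s = 1
    · rw [hs1, one_mul, mul_one]
    obtain ⟨g, hg, rfl⟩ := hE.trans a ha ha1 s hs hs1
    have hm : g⁻¹ * y * g ∈ M := by
      have := hMn g⁻¹ (inv_mem hg) y hy
      rwa [inv_inv] at this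
    have h' := congrArg Subtype.val (MulAction.mem_stabilizer_iff.1
      (hle (mem_subgroupOf.2 hm : (⟨_, hMN hm⟩ : N) ∈ M')))
    rw [hsmul] at h'
    have h'' : g⁻¹ * y * g * a = a * (g⁻¹ * y * g) := mul_inv_eq_iff_eq_mul.1 h'
    calc g * a * g⁻¹ * y = g * (a * (g⁻¹ * y * g)) * g⁻¹ := by group
      _ = y * (g * a * g⁻¹) := by rw [← h'']; group
  have htr : ∀ s : S', s ≠ 1 → ∃ m ∈ M', m • a' = s := by
    intro s hs
    obtain ⟨n, hn⟩ : s ∈ MulAction.orbit N a' := horb ▸ hs
    have hmem : n ∈ ((M' ⊔ H : Subgroup N) : Set N) := by rw [sup_comm, htop]; trivial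
    rw [Subgroup.normal_mul] at hmem
    obtain ⟨m, hm, h, hh, rfl⟩ := hmem
    exact ⟨m, hm, by rw [← hn]; show m • a' = (m * h) • a'; rw [mul_smul, MulAction.mem_stabilizer_iff.1 hh]⟩
  refine ⟨fun b hb hb1 => ?_, ?_⟩
  · obtain ⟨m, hm, e⟩ := htr ⟨b, hb⟩ fun h => hb1 (congrArg Subtype.val h)
    exact ⟨m, mem_subgroupOf.1 hm, congrArg Subtype.val e⟩
  · have hle : MulAction.orbit M' a' = MulAction.orbit N a' := by
      refine le_antisymm (fun s ⟨m, hm⟩ => ⟨m, hm⟩) fun s hs => ?_
      rw [horb] at hs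
      obtain ⟨m, hm, e⟩ := htr s hs
      exact ⟨⟨m, hm⟩, e⟩
    have h := MulAction.index_stabilizer M' a'
    rw [hle, h7] at h
    rw [← h]
    let e : M' ≃* M := subgroupOfEquivOfLe hMN
    rw [show (centralizer (S' : Set G)).relIndex M = ((centralizer (S' : Set G)).subgroupOf M).index from rfl,
      ← index_comap_of_surjective ((centralizer (S' : Set G)).subgroupOf M) (f := e.toMonoidHom) e.surjective]
    refine index_dvd_of_le fun m hm => MulAction.mem_stabilizer_iff.2 (Subtype.ext ?_)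
    show ((m : N) : G) * a * ((m : N) : G)⁻¹ = a
    rw [← mem_centralizer_iff.1 (show ((m : N) : G) ∈ centralizer (S' : Set G) from hm) a ha, mul_inv_cancel_right]

/-- A power by a prime `p ≥ 5` of a `p`-element of the normaliser centralises. -/
theorem pow_mem_centralizer {p : ℕ} [Fact p.Prime] (h5 : 5 ≤ p) {g : G} {k : ℕ} (hg : g ^ p ^ k = 1)
    (hgN : g ∈ normalizer ((S : Subgroup G) : Set G)) :
    g ^ p ∈ centralizer ((S : Subgroup G) : Set G) := by
  classical
  by_cases h7 : p = 7
  swap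
  · exact pow_mem (mem_centralizer_of_pElement hE h5 hg hgN (Or.inl h7)) p
  subst h7
  set S' : Subgroup G := (S : Subgroup G) with hS'
  obtain ⟨a, ha, ha1⟩ := hE.exists_out (T := {1}) (by rw [Set.ncard_singleton]; norm_num)
  have ha1 : a ≠ 1 := ha1
  set Z := zpowers g
  letI : MulAction Z S' := MulAction.compHom S' ((normalizerMonoidHom S').comp (inclusion (zpowers_le.2 hgN)))
  obtain ⟨j, -, hj⟩ := (Nat.dvd_prime_pow (Fact.out : (7 : ℕ).Prime)).1
    (((MulAction.stabilizer Z (⟨a, ha⟩ : S')).index_dvd_card.trans (by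
      rw [Nat.card_zpowers]; exact orderOf_dvd_of_pow_eq_one hg) : _ ∣ 7 ^ k))
  have hle : (MulAction.stabilizer Z (⟨a, ha⟩ : S')).index ≤ 8 := by
    rw [MulAction.index_stabilizer, ← hE.card]
    exact (Set.ncard_le_ncard (Set.subset_univ _) (Set.toFinite _)).trans (le_of_eq (Set.ncard_univ _))
  have hdvd : (MulAction.stabilizer Z (⟨a, ha⟩ : S')).index ∣ 7 := by
    rw [hj] at hle ⊢
    rcases Nat.lt_or_ge j 2 with h | h
    · interval_cases j <;> norm_num
    · have := Nat.pow_le_pow_right (show 0 < 7 by norm_num) h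
      omega
  haveI : (MulAction.stabilizer Z (⟨a, ha⟩ : S')).Normal := ⟨fun x hx y => by
    rw [show y * x = x * y from Subtype.ext (mul_comm_of_mem_isMulCommutative Z y.2 x.2), mul_inv_cancel_right]
    exact hx⟩
  obtain ⟨m, hm⟩ := hdvd
  have h := MulAction.mem_stabilizer_iff.1 (pow_mem
    (Subgroup.pow_index_mem (MulAction.stabilizer Z (⟨a, ha⟩ : S')) (⟨g, mem_zpowers g⟩ : Z)) m)
  rw [← pow_mul, ← hm] at h
  have h' : g ^ 7 * a * (g ^ 7)⁻¹ = a := congrArg Subtype.val h
  refine mem_centralizer_of_pElement hE h5 (k := k) (g := g ^ 7) ?_ (pow_mem hgN 7)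
    (Or.inr ⟨a, ha, ha1, mul_inv_eq_iff_eq_mul.1 h'⟩)
  rw [← pow_mul, mul_comm, pow_mul, hg, one_pow]

end Cfsg.Agent.AllAbelian
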