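import Cfsg.Agent.Lib.Walter4.Struct
import Cfsg.Agent.Lib.Walter4.Assembly
import Cfsg.Agent.Lib.Walter8.Quot
import Cfsg.Agent.Lib.Classical.DicksonProper
import Cfsg.Prelude.Def_Spor_J1

/-!
A group with trivial odd core and an elementary abelian Sylow 2-subgroup of order 8 with one class of
involutions, all Sylow subgroups being abelian: the Sylow subgroup is normal, or the group is covered by
the normaliser and a normal `PSL₂(8)` or J₁.
-/

set_option autoImplicit false
set_option linter.unusedSectionVars false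
set_option linter.style.haveILetI false

namespace Cfsg.Agent.AllAbelian

open Subgroup

universe u

/-- A non-abelian simple group has no abelian self-centralised automiser at a Sylow subgroup. -/
theorem not_normalizer_le_centralizer {K : Type u} [Group K] [Finite K] [IsSimpleGroup K]
    (hnc : ¬ IsMulCommutative K) {p : ℕ} [Fact p.Prime] (P : Sylow p K) (hp : p ∣ Nat.card K) :
    ¬ normalizer ((P : Subgroup K) : Set K) ≤ centralizer ((P : Subgroup K) : Set K) := by
  intro h
  rcases (inferInstance : (MonoidHom.transferSylow P h).ker.Normal).eq_bot_or_eq_top with hb | ht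
  · have hc := (MonoidHom.ker_transferSylow_isComplement' P h).card_mul
    rw [hb, Subgroup.card_bot, one_mul] at hc
    have hT : (P : Subgroup K) = ⊤ := eq_top_of_card_eq _ hc
    refine hnc ⟨⟨fun x y => ?_⟩⟩
    have hy : y ∈ (P : Subgroup K) := hT ▸ mem_top y
    have hx := h (le_normalizer (hT ▸ mem_top x : x ∈ (P : Subgroup K)))
    exact (mem_centralizer_iff.1 hx y hy).symm
  · have := MonoidHom.not_dvd_card_ker_transferSylow P h
    rw [ht, card_top] at this
    exact this hp

/-- Twice four divides the order of a known group only if it has a Sylow 2-subgroup of order at least 4. -/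
theorem good_four_dvd {K : Type u} [Group K] [Finite K] (h : Walter4.Good K) : 4 ∣ Nat.card K := by
  rcases h with ⟨F, _, _, hF, ⟨e⟩⟩ | ⟨-, T, hE, -, -⟩
  · rw [Nat.card_congr e.toEquiv]
    rcases hF with ⟨h8, -⟩ | ⟨n, hn, hq⟩
    · exact Walter8.four_dvd_psl (Nat.odd_iff.2 (by omega))
    · have hd := Dickson.gcd_mul_card_psl (K := F)
      rw [Nat.card_eq_fintype_card (α := F), hq] at hd
      have h1 : 1 ≤ 2 ^ n := Nat.one_le_two_pow
      have hev : 2 ∣ 2 ^ n := dvd_pow_self 2 (by omega)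
      have hg : Nat.gcd 2 (2 ^ n - 1) = 1 :=
        (Nat.prime_two.coprime_iff_not_dvd).2 fun h' => by omega
      rw [hg, one_mul] at hd
      rw [hd]
      exact dvd_mul_of_dvd_left (show 2 ^ 2 ∣ 2 ^ n from pow_dvd_pow 2 hn) _
  · exact (show 4 ∣ 8 by norm_num).trans (hE.card ▸ card_subgroup_dvd_card _)

variable {H : Type u} [Group H] [Finite H]

/-- The normaliser is everything, or covers the group together with a normal `PSL₂(8)` or J₁. -/
theorem index_cases (hW : Walter4.GoodStmt.{u}) (S : Sylow 2 H) (h8 : Nat.card (S : Subgroup H) = 8)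
    (hS : IsMulCommutative (S : Subgroup H)) (hcore : Cfsg.pPrimeCore 2 H = ⊥)
    (htr : ∀ a ∈ (S : Subgroup H), a ≠ 1 → ∀ b ∈ (S : Subgroup H), b ≠ 1 →
      ∃ g ∈ normalizer ((S : Subgroup H) : Set H), g * a * g⁻¹ = b)
    (hA : ∀ l : ℕ, l.Prime → ∀ T : Subgroup H, IsPGroup l T → IsMulCommutative T)
    (hJ : ∀ (X : Type u) [Group X] [Finite X], Nat.card X ≤ Nat.card H → IsSimpleGroup X →
      ¬ IsMulCommutative X → Walter4.RJType X → (∀ l, l.Prime → ∀ T : Sylow l X, IsMulCommutative T) →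
      Cfsg.Spor.IsoJ1 X) :
    normalizer ((S : Subgroup H) : Set H) = ⊤ ∨ ∃ K : Subgroup H, K.Normal ∧ IsSimpleGroup K ∧
      ¬ IsMulCommutative K ∧ (S : Subgroup H) ≤ K ∧ K ⊔ normalizer ((S : Subgroup H) : Set H) = ⊤ ∧
      (Nat.card K = 504 ∨ Cfsg.Spor.IsoJ1 K) := by
  classical
  haveI : Fact (Nat.Prime 2) := ⟨Nat.prime_two⟩
  set S' : Subgroup H := (S : Subgroup H) with hS'
  have hkn : Walter4.Known H := fun X _ _ _ hX hnc hP => hW X hX hnc hP
  -- a normal subgroup meets the Sylow subgroup trivially or contains it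
  have hall : ∀ M : Subgroup H, M.Normal → S' ⊓ M = ⊥ ∨ S' ≤ M := by
    intro M hM
    rcases Subgroup.bot_or_exists_ne_one (S' ⊓ M) with h | ⟨z, ⟨hzS, hzM⟩, hz1⟩
    · exact Or.inl h
    refine Or.inr fun s hs => ?_
    by_cases hs1 : s = 1
    · exact hs1 ▸ one_mem M
    obtain ⟨g, -, rfl⟩ := htr z hzS hz1 s hs hs1
    exact hM.conj_mem z hzM g
  haveI := Components.layer_normal (G := H)
  by_cases hcomp : ∃ K : Subgroup H, Cfsg.IsComponent K
  swap
  · left
    push Not at hcomp
    have hlay : Cfsg.layer H = ⊥ := le_bot_iff.1 (Components.layer_le_iff.2 fun L hL => absurd hL (hcomp L))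
    have h1 := Walter4.sylow_le S hS hcore
    rw [hlay, sup_bot_eq] at h1
    haveI : S'.Normal := by
      rw [show S' = Cfsg.pCore 2 H from le_antisymm h1 (PBasic.pCore_le_sylow S)]
      exact FittingCores.pCore_normal (G := H) 2
    exact normalizer_eq_top S'
  obtain ⟨K, hK⟩ := hcomp
  have hbig : ∀ L : Subgroup H, Cfsg.IsComponent L → 4 ≤ Nat.card (S' ⊓ L : Subgroup H) := by
    intro L hL
    obtain ⟨T, hT, -⟩ := Walter4.exists_sylow_component S hS hcore hL
    have h4 : 2 ^ 2 ∣ Nat.card (T : Subgroup L) := by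
      rw [T.card_eq_multiplicity]
      exact pow_dvd_pow 2 ((Nat.prime_two.pow_dvd_iff_le_factorization Nat.card_pos.ne').1
        (good_four_dvd (Walter4.component_good S hS hcore hkn hL)))
    rw [show (S' ⊓ L : Subgroup H) = (S'.subgroupOf L).map L.subtype by rw [subgroupOf_map_subtype],
      card_map_of_injective L.subtype_injective, ← hT]
    exact Nat.le_of_dvd Nat.card_pos h4
  have huniq : ∀ L : Subgroup H, Cfsg.IsComponent L → L = K := by
    intro L hL
    by_contra hne
    have hdis : ∀ z ∈ L, z ∈ K → z = 1 := by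
      intro z hzL hzK
      have hz : (⟨z, hzK⟩ : K) ∈ center K := mem_center_iff.2 fun g => Subtype.ext
        ((commutatorElement_eq_one_iff_mul_comm.1 ((Subgroup.mem_bot).1
          (Components.components_commute hK hL (Ne.symm hne) ▸ Subgroup.commutator_mem_commutator g.2 hzL))))
      rw [Walter4.component_center S hS hcore hK, mem_bot] at hz
      exact congrArg Subtype.val hz
    let f : (S' ⊓ K : Subgroup H) × (S' ⊓ L : Subgroup H) → S' :=
      fun z => ⟨(z.1 : H) * z.2, mul_mem z.1.2.1 z.2.2.1⟩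
    have hf : Function.Injective f := by
      rintro ⟨⟨x, hx⟩, ⟨y, hy⟩⟩ ⟨⟨x', hx'⟩, ⟨y', hy'⟩⟩ he
      have he' : x * y = x' * y' := congrArg Subtype.val he
      have h1 : x'⁻¹ * x = y' * y⁻¹ := by
        rw [eq_mul_inv_iff_mul_eq, mul_assoc, he', inv_mul_cancel_left]
      have h2 : x'⁻¹ * x = 1 := hdis _ (h1 ▸ mul_mem hy'.2 (inv_mem hy.2)) (mul_mem (inv_mem hx'.2) hx.2)
      have hx2 : x = x' := (inv_mul_eq_one.1 h2).symm
      subst hx2
      exact Prod.ext rfl (Subtype.ext (mul_left_cancel he'))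
    have := Nat.card_le_card_of_injective f hf
    rw [Nat.card_prod, h8] at this
    nlinarith [hbig K hK, hbig L hL]
  have hlay : Cfsg.layer H = K := le_antisymm
    (Components.layer_le_iff.2 fun L hL => (huniq L hL).le) (Components.component_le_layer hK)
  haveI hKn : K.Normal := hlay ▸ (inferInstance : (Cfsg.layer H).Normal)
  have hSK : S' ≤ K := (hall K hKn).resolve_left fun h => by
    have := hbig K hK
    rw [h, Subgroup.card_bot] at this
    omega
  obtain ⟨hKs, hKnc⟩ := Walter4.component_simple S hS hcore hK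
  refine Or.inr ⟨K, hKn, hKs, hKnc, hSK, ?_, ?_⟩
  · rw [sup_comm]
    exact Sylow.normalizer_sup_eq_top' S hSK
  have hK8 : 8 ∣ Nat.card K := h8 ▸ card_dvd_of_le hSK
  have hK16 : ¬ 16 ∣ Nat.card K := fun h => by
    have h16 : 2 ^ 4 ∣ Nat.card H := h.trans (card_subgroup_dvd_card K)
    have := S.card_eq_multiplicity
    rw [show Nat.card (S : Subgroup H) = 2 ^ 3 from h8] at this
    have h3 := Nat.pow_right_injective (le_refl 2) this
    have := (Nat.prime_two.pow_dvd_iff_le_factorization Nat.card_pos.ne').1 h16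
    omega
  rcases Walter4.component_good S hS hcore hkn hK with ⟨F, _, _, hF, ⟨e⟩⟩ | hRJ
  · left
    have hd := Dickson.gcd_mul_card_psl (K := F)
    rw [Nat.card_eq_fintype_card (α := F), ← Nat.card_congr e.toEquiv] at hd
    rcases hF with ⟨h8', h5⟩ | ⟨n, hn, hq⟩
    · exfalso
      set q := Fintype.card F
      rw [show Nat.gcd 2 (q - 1) = 2 from Nat.gcd_eq_left (by omega)] at hd
      have h16 : 2 ^ 4 ∣ q * (q ^ 2 - 1) := by
        rw [← hd, show 2 ^ 4 = 2 * 8 by norm_num]; exact Nat.mul_dvd_mul (dvd_refl 2) hK8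
      have hco : Nat.Coprime (2 ^ 4) q := ((Nat.prime_two.coprime_iff_not_dvd).2 (by omega)).pow_left 4
      have := hco.dvd_of_dvd_mul_left h16
      obtain ⟨m, hm | hm⟩ : ∃ m, q = 8 * m + 3 ∨ q = 8 * m + 5 := ⟨q / 8, by omega⟩
      · rw [hm, show (8 * m + 3) ^ 2 - 1 = 16 * (4 * m * m + 3 * m) + 8 by ring_nf; omega] at this
        omega
      · rw [hm, show (8 * m + 5) ^ 2 - 1 = 16 * (4 * m * m + 5 * m + 1) + 8 by ring_nf; omega] at this
        omega
    · rw [hq] at hd
      have h1 : 4 ≤ 2 ^ n := le_trans (by norm_num) (Nat.pow_le_pow_right two_pos hn)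
      have hev : 2 ∣ 2 ^ n := dvd_pow_self 2 (by omega)
      rw [Nat.Coprime.gcd_eq_one ((Nat.prime_two.coprime_iff_not_dvd).2 fun h' => by omega), one_mul] at hd
      have hodd : ¬ 2 ∣ (2 ^ n) ^ 2 - 1 := by
        have : 2 ∣ (2 ^ n) ^ 2 := dvd_pow hev two_ne_zero
        have : 1 ≤ (2 ^ n) ^ 2 := Nat.one_le_pow _ _ (by omega)
        omega
      have hn3 : n = 3 := by
        have h3 : 2 ^ 3 ∣ 2 ^ n := ((((Nat.prime_two.coprime_iff_not_dvd).2 hodd).pow_left 3)).dvd_of_dvd_mul_right
          (hd ▸ hK8)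
        have h3' := (Nat.pow_dvd_pow_iff_le_right (by norm_num : 1 < 2)).1 h3
        by_contra hne
        refine hK16 (hd ▸ dvd_mul_of_dvd_left (show 2 ^ 4 ∣ 2 ^ n from pow_dvd_pow 2 (by omega)) _)
      subst hn3
      rw [hd]; norm_num
  · exact Or.inr (hJ K (Subgroup.card_le_card_group K) hKs hKnc hRJ fun l hl T => by
      haveI := hA l hl _ (T.2.map K.subtype)
      refine ⟨⟨fun x y => Subtype.ext (Subtype.ext ?_)⟩⟩
      have h := congrArg Subtype.val
        (mul_comm' (⟨_, ⟨x, x.2, rfl⟩⟩ : (T : Subgroup K).map K.subtype) ⟨_, ⟨y, y.2, rfl⟩⟩)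
      exact h)

end Cfsg.Agent.AllAbelian
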