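import Cfsg.Agent.Lib.Components.PTerminalPerfect
import Cfsg.Agent.Lib.Transfer.Basic
import Cfsg.Agent.Lib.LocalEven.SylowAux
import Mathlib.GroupTheory.IsPerfect
import Mathlib.GroupTheory.SpecificGroups.Cyclic

/-!
Small tools for the groups with all Sylow subgroups abelian.
-/

set_option autoImplicit false
set_option linter.unusedSectionVars false
set_option linter.style.haveILetI false

namespace Cfsg.Agent.AllAbelian

open Subgroup
open scoped commutatorElement

universe u

variable {G : Type u} [Group G] [Finite G]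

/-- An element of an abelian Sylow subgroup fixed by the normaliser is trivial in a simple group. -/
theorem eq_one_of_fixed [IsSimpleGroup G] (hna : ¬ IsMulCommutative G) {p : ℕ} [Fact p.Prime]
    (P : Sylow p G) (hP : IsMulCommutative (P : Subgroup G)) {x : G} (hx : x ∈ P)
    (hfix : ∀ n ∈ normalizer ((P : Subgroup G) : Set G), n * x = x * n) : x = 1 := by
  haveI : Group.IsPerfect G := ⟨by
    rcases (inferInstance : (commutator G).Normal).eq_bot_or_eq_top with h | h
    · refine absurd ⟨⟨fun a b => commutatorElement_eq_one_iff_mul_comm.1 ?_⟩⟩ hna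
      have hm : ⁅a, b⁆ ∈ commutator G :=
        Subgroup.commutator_mem_commutator (mem_top a) (mem_top b)
      rwa [h, mem_bot] at hm
    · exact h⟩
  haveI := hP
  refine PTerm.eq_one_of_transfer P.2 P.not_dvd_index hx fun k g hg => ?_
  obtain ⟨n, hn, e⟩ := P.conj_eq_normalizer_conj_of_mem (x ^ k) g (pow_mem hx k) hg
  rw [e, mul_assoc, ← ((show Commute n x from hfix n hn).pow_right k).eq, inv_mul_cancel_left]

/-- In a cyclic group there is only one subgroup of each prime order. -/
theorem mem_zpowers_of_cyclic {p : ℕ} (hp : p.Prime) {X : Subgroup G} (hX : IsCyclic X) {x z : G}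
    (hx : x ∈ X) (hox : orderOf x = p) (hz : z ∈ X) (hzp : z ^ p = 1) : z ∈ zpowers x := by
  classical
  haveI := hX
  haveI : Fintype X := Fintype.ofFinite X
  set x' : X := ⟨x, hx⟩
  have hsub : (Finset.univ.filter fun a : X => a ∈ zpowers x') ⊆ Finset.univ.filter fun a : X => a ^ p = 1 := by
    intro a ha
    obtain ⟨i, rfl⟩ := mem_zpowers_iff.1 (Finset.mem_filter.1 ha).2
    refine Finset.mem_filter.2 ⟨Finset.mem_univ _, ?_⟩
    rw [← zpow_natCast, ← zpow_mul, mul_comm, zpow_mul, zpow_natCast,
      show x' ^ p = 1 from Subtype.ext (hox ▸ pow_orderOf_eq_one x), one_zpow]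
  have hcard : (Finset.univ.filter fun a : X => a ∈ zpowers x').card = p := by
    rw [← Fintype.card_subtype, ← Nat.card_eq_fintype_card, ← hox, ← Subgroup.orderOf_mk x hx]
    exact Nat.card_zpowers x'
  have heq := Finset.eq_of_subset_of_card_le hsub (by
    rw [hcard]; exact IsCyclic.card_pow_eq_one_le hp.pos)
  have hz' : (⟨z, hz⟩ : X) ∈ Finset.univ.filter fun a : X => a ^ p = 1 :=
    Finset.mem_filter.2 ⟨Finset.mem_univ _, Subtype.ext hzp⟩
  rw [← heq] at hz'
  obtain ⟨i, hi⟩ := mem_zpowers_iff.1 (Finset.mem_filter.1 hz').2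
  exact mem_zpowers_iff.2 ⟨i, congrArg Subtype.val hi⟩

/-- The Sylow subgroups of a subgroup. -/
theorem comm_sylow_subgroup {p : ℕ} [Fact p.Prime] (hA : ∀ P : Sylow p G, IsMulCommutative P)
    (C : Subgroup G) (P : Sylow p C) : IsMulCommutative (P : Subgroup C) := by
  obtain ⟨Q, hQ⟩ := (P.2.map C.subtype).exists_le_sylow
  refine ⟨⟨fun a b => Subtype.ext (Subtype.ext ?_)⟩⟩
  exact (congrArg Subtype.val
    ((hA Q).is_comm.comm ⟨_, hQ ⟨a, a.2, rfl⟩⟩ ⟨_, hQ ⟨b, b.2, rfl⟩⟩) :)

/-- The subgroups of prime power order of an image. -/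
theorem comm_pGroup_image {p : ℕ} [Fact p.Prime] {H : Type u} [Group H] (f : G →* H)
    (hf : Function.Surjective f) (hA : ∀ P : Sylow p G, IsMulCommutative P) {T : Subgroup H}
    (hT : IsPGroup p T) : IsMulCommutative T := by
  haveI : Finite H := Finite.of_surjective f hf
  obtain ⟨Q, hQ⟩ := hT.exists_le_sylow
  obtain ⟨P, rfl⟩ := Sylow.mapSurjective_surjective hf p Q
  refine ⟨⟨fun a b => Subtype.ext ?_⟩⟩
  obtain ⟨a', ha', ea⟩ := hQ a.2
  obtain ⟨b', hb', eb⟩ := hQ b.2
  show (a : H) * b = b * a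
  rw [← ea, ← eb, ← map_mul, ← map_mul]
  exact congrArg f (congrArg Subtype.val ((hA P).is_comm.comm ⟨a', ha'⟩ ⟨b', hb'⟩) :)

/-- A Sylow subgroup of a subgroup of index prime to `p` gives one of the group of the same order. -/
theorem card_sylow_of_le {p : ℕ} [Fact p.Prime] (P : Sylow p G) {C : Subgroup G}
    (h : ¬ p ∣ C.index) (R : Sylow p C) : Nat.card (R : Subgroup C) = Nat.card (P : Subgroup G) := by
  have hR : ¬ p ∣ ((R : Subgroup C).map C.subtype).index := by
    rw [index_map_subtype]
    exact (Fact.out : p.Prime).not_dvd_mul R.not_dvd_index h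
  rw [← card_map_of_injective C.subtype_injective,
    show ((R : Subgroup C).map C.subtype) = ((R.2.map C.subtype).toSylow hR : Subgroup G) from rfl,
    Sylow.card_eq_multiplicity, Sylow.card_eq_multiplicity]

/-- The `p`-th powers lie in a subgroup of index dividing `p` of an abelian group. -/
theorem pow_mem_of_relIndex {p : ℕ} {P X : Subgroup G} (hPc : IsMulCommutative P)
    (h : X.relIndex P ∣ p) {y : G} (hy : y ∈ P) : y ^ p ∈ X := by
  haveI := hPc
  haveI : (X.subgroupOf P).Normal := ⟨fun x hx g => by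
    rw [mul_comm' g x, mul_inv_cancel_right]; exact hx⟩
  obtain ⟨m, hm⟩ := h
  have h1 := pow_mem (Subgroup.pow_index_mem (X.subgroupOf P) (⟨y, hy⟩ : P)) m
  rw [← pow_mul, show (X.subgroupOf P).index * m = p from hm.symm] at h1
  exact h1

end Cfsg.Agent.AllAbelian
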