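import Cfsg.Agent.Lib.AllAbelian.Local
import Cfsg.Agent.Lib.AllAbelian.Section
import Cfsg.Agent.Lib.AllAbelian.Tools

/-!
The centraliser of an element of prime order `p ≥ 5` centralising `S`: it is the normaliser of the element,
its odd core centralises `S`, and its index over the normaliser of `S` in the quotient is controlled.
-/

set_option autoImplicit false
set_option linter.unusedSectionVars false
set_option linter.style.haveILetI false

namespace Cfsg.Agent.AllAbelian

open Subgroup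
open Cfsg.Agent.Walter8 (Eight LType cen)

universe u

variable {G : Type u} [Group G] [Finite G]

/-- An element of prime order `p ≥ 5` centralising `S`, the `p`-subgroups of the centralisers of the
involutions being cyclic and the odd subgroups there that `S` and a mover normalise centralising `S`. -/
structure Ctx (S : Sylow 2 G) (p : ℕ) (x : G) : Prop where
  eight : Eight (S : Subgroup G)
  five : 5 ≤ p
  order : orderOf x = p
  mem : x ∈ centralizer ((S : Subgroup G) : Set G)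
  normal : ∀ n ∈ normalizer ((S : Subgroup G) : Set G), n * x = x * n
  cyclic : ∀ t ∈ (S : Subgroup G), t ≠ 1 → ∀ X : Subgroup G, IsPGroup p X → X ≤ cen t → IsCyclic X
  odd : ∀ v ∈ (S : Subgroup G), v ≠ 1 → ∀ R : Subgroup G, R ≤ cen v → ¬ 2 ∣ Nat.card R →
    (S : Subgroup G) ≤ normalizer (R : Set G) → ∀ y ∈ normalizer ((S : Subgroup G) : Set G),
      y ∈ normalizer (R : Set G) → y * v = v * y → y ∉ centralizer ((S : Subgroup G) : Set G) →
      R ≤ centralizer ((S : Subgroup G) : Set G)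

/-- The natural map onto the centraliser modulo its odd core. -/
abbrev Quo (x : G) : Type u := ↥(cen x) ⧸ Cfsg.oddCore ↥(cen x)

namespace Ctx

variable {S : Sylow 2 G} {p : ℕ} {x : G} (D : Ctx S p x)
include D

theorem le_cen : (S : Subgroup G) ≤ cen x := fun s hs =>
  mem_centralizer_singleton_iff.2 (mem_centralizer_iff.1 D.mem s hs)

theorem normalizer_le : normalizer ((S : Subgroup G) : Set G) ≤ cen x := fun n hn =>
  mem_centralizer_singleton_iff.2 (D.normal n hn)

theorem mem_self : x ∈ normalizer ((S : Subgroup G) : Set G) := centralizer_le_normalizer _ D.mem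

/-- The normaliser of `⟨x⟩` is the centraliser of `x`. -/
theorem normalizer_zpowers {g : G} (hg : g ∈ normalizer (zpowers x : Set G)) : g * x = x * g := by
  haveI : Fact (Nat.Prime 2) := ⟨Nat.prime_two⟩
  set S' : Subgroup G := (S : Subgroup G) with hS'
  have hconj : ∀ c ∈ cen x, g * c * g⁻¹ ∈ cen x := by
    intro c hc
    obtain ⟨i, hi⟩ := mem_zpowers_iff.1 ((mem_normalizer_iff.1 (inv_mem hg) x).1 (mem_zpowers x))
    have hcx : Commute c x := mem_centralizer_singleton_iff.1 hc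
    refine mem_centralizer_singleton_iff.2 ?_
    rw [inv_inv] at hi
    have hxe : x = g * x ^ i * g⁻¹ := by rw [hi]; group
    conv_lhs => rw [hxe]
    conv_rhs => rw [hxe]
    calc g * c * g⁻¹ * (g * x ^ i * g⁻¹) = g * (c * x ^ i) * g⁻¹ := by group
      _ = g * x ^ i * g⁻¹ * (g * c * g⁻¹) := by rw [(hcx.zpow_right i).eq]; group
  obtain ⟨c, hc, T, hT, hST, -, hcT⟩ := ClosedAbelian.exists_conj_over (X := cen x) (A := S')
    (P := S'.map (MulAut.conj g).toMonoidHom) S.2 D.le_cen (S.2.map _) (by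
      rintro _ ⟨s, hs, rfl⟩; exact hconj s (D.le_cen hs))
  obtain rfl : T = S' := S.is_maximal' hT hST
  have hcg : c * g ∈ normalizer (S' : Set G) := by
    rw [← LEBasic.map_conj_eq_iff_mem_normalizer]
    refine eq_of_le_of_card_ge ?_ (LEBasic.card_map_conj _ _).ge
    rintro _ ⟨s, hs, rfl⟩
    have h := hcT _ ⟨s, hs, rfl⟩
    show c * g * s * (c * g)⁻¹ ∈ S'
    rwa [show c * g * s * (c * g)⁻¹ = c * (g * s * g⁻¹) * c⁻¹ by group]
  have h := mul_mem (inv_mem hc) (D.normalizer_le hcg)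
  rw [inv_mul_cancel_left] at h
  exact mem_centralizer_singleton_iff.1 h

/-- The odd core of the centraliser centralises `S`. -/
theorem core_le : ClosedAbelian.core (cen x) ≤ centralizer ((S : Subgroup G) : Set G) := by
  set O := ClosedAbelian.core (cen x) with hO
  set A : Subgroup G := (S : Subgroup G) with hA
  haveI : IsMulCommutative A := ⟨⟨fun u v => Subtype.ext (D.eight.comm u.2 v.2)⟩⟩
  have hnc : ¬ IsCyclic A := fun hc => by
    obtain ⟨z, hz⟩ := IsCyclic.exists_ofOrder_eq_natCard (α := A)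
    have h2 : orderOf z ∣ 2 := orderOf_dvd_of_pow_eq_one (Subtype.ext (by
      rw [SubmonoidClass.coe_pow, pow_two]; exact D.eight.sq z z.2))
    rw [hz, D.eight.card] at h2
    norm_num at h2
  have hcop : (Nat.card A).Coprime (Nat.card O) := by
    rw [D.eight.card, show 8 = 2 ^ 3 from rfl]
    exact ((Nat.prime_two.coprime_iff_not_dvd).2 (ClosedAbelian.core_odd _)).pow_left 3
  have hAN : A ≤ normalizer (O : Set G) := D.le_cen.trans (ClosedAbelian.core_normalized _)
  rw [← CoprimeAct.generated_by_centralizers hnc hAN hcop]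
  refine iSup₂_le fun v hv => ?_
  obtain ⟨hvS, hv1⟩ := hv
  obtain ⟨y, hy, hyv, hyc⟩ := D.eight.moves v hvS hv1
  have hnorm : ∀ g ∈ normalizer (O : Set G), g * v = v * g →
      g ∈ normalizer ((O ⊓ cen v : Subgroup G) : Set G) := by
    intro g hg hgv
    have hv' : ∀ h, h ∈ cen v ↔ g * h * g⁻¹ ∈ cen v := fun h => by
      have hgC : g ∈ cen v := mem_centralizer_singleton_iff.2 hgv
      exact (mem_normalizer_iff.1 (le_normalizer (H := cen v) hgC) h)
    refine mem_normalizer_iff.2 fun h => ?_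
    rw [Subgroup.mem_inf, Subgroup.mem_inf, mem_normalizer_iff.1 hg h, hv' h]
  exact D.odd v hvS hv1 _ inf_le_right
    (fun h => ClosedAbelian.core_odd (cen x) (h.trans (card_dvd_of_le inf_le_left)))
    (fun s hs => hnorm s (hAN hs) (D.eight.comm hs hvS)) y hy
    (hnorm y (ClosedAbelian.core_normalized _ (D.normalizer_le hy)) hyv) hyv hyc

theorem comm_core {g : cen x} (hg : g ∈ Cfsg.oddCore ↥(cen x)) :
    (g : G) ∈ centralizer ((S : Subgroup G) : Set G) ∧ Odd (orderOf (g : G)) :=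
  ⟨D.core_le ⟨g, hg, rfl⟩, ClosedAbelian.odd_orderOf_of_mem (ClosedAbelian.core_odd _) ⟨g, hg, rfl⟩⟩

/-- An element of `S` in the odd core is trivial. -/
theorem eq_of_mk {s s' : G} (hs : s ∈ (S : Subgroup G)) (hs' : s' ∈ (S : Subgroup G))
    (h : (QuotientGroup.mk ⟨s, D.le_cen hs⟩ : Quo x) = QuotientGroup.mk ⟨s', D.le_cen hs'⟩) : s = s' := by
  have h1 := (D.comm_core (QuotientGroup.eq.1 h)).2
  exact inv_mul_eq_one.1 ((ClosedAbelian.TwoEl.of_group S.2
    (mul_mem (inv_mem hs) hs')).eq_one_of_odd h1)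

/-- An element mapping an element of `S` into the image of `S` maps it into `S`. -/
theorem lift {g : cen x} {s s' : G} (hs : s ∈ (S : Subgroup G)) (hs' : s' ∈ (S : Subgroup G))
    (h : (QuotientGroup.mk (g * ⟨s, D.le_cen hs⟩ * g⁻¹) : Quo x) = QuotientGroup.mk ⟨s', D.le_cen hs'⟩) :
    (g : G) * s * (g : G)⁻¹ = s' := by
  obtain ⟨ho, hodd⟩ := D.comm_core (QuotientGroup.eq.1 h.symm)
  set o : G := ((⟨s', D.le_cen hs'⟩⁻¹ * (g * ⟨s, D.le_cen hs⟩ * g⁻¹) : cen x) : G) with ho'
  have e : (g : G) * s * (g : G)⁻¹ = s' * o := by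
    rw [ho']
    show _ = s' * (s'⁻¹ * ((g : G) * s * (g : G)⁻¹))
    rw [mul_inv_cancel_left]
  have hoo : o * o = 1 := by
    have hc : Commute s' o := mem_centralizer_iff.1 ho s' hs'
    have h2 : (g : G) * s * (g : G)⁻¹ * ((g : G) * s * (g : G)⁻¹) = 1 := by
      rw [show (g : G) * s * (g : G)⁻¹ * ((g : G) * s * (g : G)⁻¹) = (g : G) * (s * s) * (g : G)⁻¹ by group,
        D.eight.sq s hs, mul_one, mul_inv_cancel]
    rwa [e, hc.symm.mul_mul_mul_comm, D.eight.sq s' hs', one_mul] at h2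
  rw [e, GW.eq_one_of_sq_odd hoo hodd, mul_one]

theorem lift_comm {g : cen x} {s : G} (hs : s ∈ (S : Subgroup G))
    (h : (QuotientGroup.mk g : Quo x) * QuotientGroup.mk ⟨s, D.le_cen hs⟩ =
      QuotientGroup.mk ⟨s, D.le_cen hs⟩ * QuotientGroup.mk g) : (g : G) * s = s * (g : G) :=
  mul_inv_eq_iff_eq_mul.1 (D.lift hs hs (by
    rw [QuotientGroup.mk_mul, QuotientGroup.mk_mul, QuotientGroup.mk_inv, h, mul_inv_cancel_right]))

omit D in
theorem mk_surjective (x : G) :
    Function.Surjective (QuotientGroup.mk' (Cfsg.oddCore ↥(cen x))) :=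
  QuotientGroup.mk'_surjective _

/-- The image of `S`. -/
noncomputable def sylow (D : Ctx S p x) : Sylow 2 (Quo x) :=
  haveI : Fact (Nat.Prime 2) := ⟨Nat.prime_two⟩
  (S.subtype D.le_cen).mapSurjective (mk_surjective x)

theorem mem_sylow {z : Quo x} :
    z ∈ (D.sylow : Subgroup (Quo x)) ↔
      ∃ (s : G) (hs : s ∈ (S : Subgroup G)), QuotientGroup.mk ⟨s, D.le_cen hs⟩ = z := by
  haveI : Fact (Nat.Prime 2) := ⟨Nat.prime_two⟩
  rw [sylow, Sylow.coe_mapSurjective, Sylow.coe_subtype]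
  constructor
  · rintro ⟨c, hc, rfl⟩
    exact ⟨c, mem_subgroupOf.1 hc, rfl⟩
  · rintro ⟨s, hs, rfl⟩
    exact ⟨⟨s, D.le_cen hs⟩, mem_subgroupOf.2 hs, rfl⟩

theorem card_sylow : Nat.card (D.sylow : Subgroup (Quo x)) = 8 := by
  rw [← D.eight.card]
  refine (Nat.card_congr (Equiv.ofBijective
    (fun s : (S : Subgroup G) => (⟨QuotientGroup.mk ⟨(s : G), D.le_cen s.2⟩,
      D.mem_sylow.2 ⟨s, s.2, rfl⟩⟩ : (D.sylow : Subgroup (Quo x)))) ⟨fun s t h => ?_, fun z => ?_⟩)).symm
  · exact Subtype.ext (D.eq_of_mk s.2 t.2 (congrArg Subtype.val h))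
  · obtain ⟨s, hs, e⟩ := D.mem_sylow.1 z.2
    exact ⟨⟨s, hs⟩, Subtype.ext e⟩

/-- The normaliser of the image is the image of the normaliser. -/
theorem normalizer_comap :
    (normalizer ((D.sylow : Subgroup (Quo x)) : Set (Quo x))).comap
        (QuotientGroup.mk' (Cfsg.oddCore ↥(cen x))) =
      (normalizer ((S : Subgroup G) : Set G)).subgroupOf (cen x) := by
  set T : Subgroup (Quo x) := (D.sylow : Subgroup (Quo x)) with hT
  refine le_antisymm (fun g hg => mem_subgroupOf.2 ?_) fun g hg => mem_comap.2 ?_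
  · rw [mem_comap] at hg
    rw [← LEBasic.map_conj_eq_iff_mem_normalizer]
    refine eq_of_le_of_card_ge ?_ (LEBasic.card_map_conj _ _).ge
    rintro _ ⟨s, hs, rfl⟩
    obtain ⟨s', hs', e⟩ := D.mem_sylow.1 ((mem_normalizer_iff.1 hg _).1 (D.mem_sylow.2 ⟨s, hs, rfl⟩))
    show (g : G) * s * (g : G)⁻¹ ∈ (S : Subgroup G)
    rw [D.lift hs hs' (by rw [QuotientGroup.mk_mul, QuotientGroup.mk_mul, QuotientGroup.mk_inv]; exact e.symm)]
    exact hs'
  · rw [← LEBasic.map_conj_eq_iff_mem_normalizer]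
    refine eq_of_le_of_card_ge ?_ (LEBasic.card_map_conj _ _).ge
    rintro _ ⟨z, hz, rfl⟩
    obtain ⟨s, hs, rfl⟩ := D.mem_sylow.1 hz
    exact D.mem_sylow.2 ⟨_, (mem_normalizer_iff.1 (mem_subgroupOf.1 hg) s).1 hs, rfl⟩

theorem index_eq : ((normalizer ((S : Subgroup G) : Set G)).subgroupOf (cen x)).index =
    (normalizer ((D.sylow : Subgroup (Quo x)) : Set (Quo x))).index := by
  rw [← D.normalizer_comap, index_comap_of_surjective _ (mk_surjective x)]

theorem proper [IsSimpleGroup G] (hna : ¬ IsMulCommutative G) : Nat.card (cen x) < Nat.card G := by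
  refine lt_of_le_of_ne (Subgroup.card_le_card_group _) fun h => ?_
  have hT := eq_top_of_card_eq _ h
  have hz : x ∈ center G := mem_center_iff.2 fun g =>
    mem_centralizer_singleton_iff.1 (hT.symm ▸ mem_top g : g ∈ cen x)
  rcases (inferInstance : (center G).Normal).eq_bot_or_eq_top with hb | ht
  · rw [hb, mem_bot] at hz
    have := D.order
    rw [hz, orderOf_one] at this
    have := D.five
    omega
  · exact hna ⟨⟨fun a b => (mem_center_iff.1 (ht.symm ▸ mem_top a) b).symm⟩⟩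

/-- The index of the normaliser of `S` in the centraliser: the sections. -/
theorem cases [IsSimpleGroup G] (hna : ¬ IsMulCommutative G) (hW : Walter4.GoodStmt.{u})
    (hA : ∀ l : ℕ, l.Prime → ∀ P : Sylow l G, IsMulCommutative P)
    (hJ : ∀ (X : Type u) [Group X] [Finite X], Nat.card X < Nat.card G → IsSimpleGroup X →
      ¬ IsMulCommutative X → Walter4.RJType X → (∀ l, l.Prime → ∀ T : Sylow l X, IsMulCommutative T) →
      Cfsg.Spor.IsoJ1 X) :
    normalizer ((D.sylow : Subgroup (Quo x)) : Set (Quo x)) = ⊤ ∨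
      ∃ K : Subgroup (Quo x), K.Normal ∧ IsSimpleGroup K ∧ ¬ IsMulCommutative K ∧
        (D.sylow : Subgroup (Quo x)) ≤ K ∧
        K ⊔ normalizer ((D.sylow : Subgroup (Quo x)) : Set (Quo x)) = ⊤ ∧
        (Nat.card K = 504 ∨ Cfsg.Spor.IsoJ1 K) := by
  haveI : Fact (Nat.Prime 2) := ⟨Nat.prime_two⟩
  refine index_cases hW D.sylow D.card_sylow ?_ (PBasic.pPrimeCore_quotient_pPrimeCore 2 _) ?_ ?_
    fun X _ _ hX => hJ X ((hX.trans (Nat.le_of_dvd Nat.card_pos (Cfsg.oddCore ↥(cen x)).card_quotient_dvd_card)).trans_lt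
      (D.proper hna))
  · exact ⟨⟨fun u v => Subtype.ext (by
      obtain ⟨s, hs, e⟩ := D.mem_sylow.1 u.2
      obtain ⟨t, ht, e'⟩ := D.mem_sylow.1 v.2
      show (u : Quo x) * v = v * u
      rw [← e, ← e', ← QuotientGroup.mk_mul, ← QuotientGroup.mk_mul]
      exact congrArg QuotientGroup.mk (Subtype.ext (D.eight.comm hs ht)))⟩⟩
  · intro u hu hu1 v hv hv1
    obtain ⟨s, hs, rfl⟩ := D.mem_sylow.1 hu
    obtain ⟨t, ht, rfl⟩ := D.mem_sylow.1 hv
    obtain ⟨g, hg, e⟩ := D.eight.trans s hs (fun h => hu1 (by subst h; rfl)) t ht (fun h => hv1 (by subst h; rfl))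
    refine ⟨QuotientGroup.mk ⟨g, D.normalizer_le hg⟩, ?_, ?_⟩
    · exact (D.normalizer_comap ▸ mem_subgroupOf.2 hg :
        (⟨g, D.normalizer_le hg⟩ : cen x) ∈ (normalizer ((D.sylow : Subgroup (Quo x)) : Set (Quo x))).comap _)
    · rw [← QuotientGroup.mk_inv, ← QuotientGroup.mk_mul, ← QuotientGroup.mk_mul]
      exact congrArg QuotientGroup.mk (Subtype.ext e)
  · intro l hl T hT
    haveI := Fact.mk hl
    exact comm_pGroup_image _ (mk_surjective x) (comm_sylow_subgroup (hA l hl) (cen x)) hT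

end Ctx

end Cfsg.Agent.AllAbelian
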