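import Cfsg.Agent.Lib.JanThom.PSL2Data
import Cfsg.Agent.Lib.MaxCent.PSL
import Cfsg.Agent.Lib.GW.SectionFacts
import Cfsg.Agent.Lib.GW.OuterInvol
import Cfsg.Agent.Lib.JanThom.LGram

/-!
A field automorphism of `p`-power order centralises no Sylow `p`-subgroup of `PSL₂(q)`, `q ≡ ±3 (mod 8)`,
if `p` is odd and divides the order of the group.
-/

set_option autoImplicit false
set_option linter.unusedSectionVars false
set_option linter.style.haveILetI false

namespace Cfsg.Agent.AllAbelian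

open Matrix Cfsg.Agent.AutPSL Cfsg.Agent.GW

variable {F : Type} [Field F] [Fintype F]

local notation "M2" => Matrix (Fin 2) (Fin 2) F
local notation "SL2" => Matrix.SpecialLinearGroup (Fin 2) F
local notation "PSL2" => Matrix.ProjectiveSpecialLinearGroup (Fin 2) F

theorem sl_sq (B : SL2) : (B : M2) * (B : M2) = (B : M2).trace • (B : M2) - (1 : M2) := by
  have h := B.2
  rw [Matrix.det_fin_two] at h
  ext i j
  fin_cases i <;> fin_cases j <;>
    simp [Matrix.mul_apply, Fin.sum_univ_two, Matrix.trace_fin_two] <;> first | ring1 | linear_combination -h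

/-- The order of a matrix of determinant one with trace in a subfield of order `q₀` divides
`r (q₀² - 1)`. -/
theorem pow_eq_one_of_trace {r i : ℕ} [Fact r.Prime] [CharP F r] (B : SL2)
    (ht : (B : M2).trace ^ r ^ i = (B : M2).trace) : B ^ (((r ^ i) ^ 2 - 1) * r) = 1 := by
  have hr := (Fact.out : r.Prime)
  set A := (B : M2) with hA
  set t := A.trace
  set s := r ^ i with hs
  have hs1 : 1 ≤ s := Nat.one_le_pow _ _ hr.pos
  have hAA : A * A = t • A - 1 := sl_sq B
  set N := A ^ s with hN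
  have hNA : Commute N A := Commute.pow_self A s
  have hNN : N * N = t • N - 1 := by
    haveI : CharP M2 r := inferInstance
    rw [hN, ← (Commute.refl A).mul_pow, hAA, hs, sub_pow_char_pow_of_commute (p := r) i (Commute.one_right _),
      smul_pow, one_pow, ← hs, ht]
  set A' := t • (1 : M2) - A with hA'
  have hinv : A * A' = 1 := by
    rw [hA', mul_sub, mul_smul_comm, mul_one, hAA]; abel
  have hinv' : A' * A = 1 := by
    rw [hA', sub_mul, smul_mul_assoc, one_mul, hAA]; abel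
  have hprod : (N * A' - 1) * (N * A - 1) = 0 := by
    rw [sub_mul, mul_sub, one_mul, mul_one, show N * A' * (N * A) = N * N by
      rw [mul_assoc, ← mul_assoc A' N A,
        show A' * N = N * A' by
          rw [hA', sub_mul, mul_sub, smul_mul_assoc, mul_smul_comm, one_mul, mul_one, hNA.eq],
        mul_assoc N A' A, hinv', mul_one],
      hNN, hA', mul_sub, mul_smul_comm, mul_one]
    abel
  have hA1 : A ^ (s - 1) = N * A' := by
    have e : A ^ (s - 1) * A = N := by rw [← pow_succ, Nat.sub_add_cancel hs1]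
    rw [← e, mul_assoc, hinv, mul_one]
  have hA2 : A ^ (s + 1) = N * A := pow_succ A s
  have hfac : (s - 1) * (s + 1) = s ^ 2 - 1 := by
    rw [mul_comm, ← Nat.sq_sub_sq, one_pow]
  set Z := A ^ (s ^ 2 - 1)
  have hZ1 : ∃ S1, Z - 1 = (N * A' - 1) * S1 ∧ Commute S1 (N * A - 1) := by
    refine ⟨∑ j ∈ Finset.range (s + 1), (A ^ (s - 1)) ^ j, ?_, ?_⟩
    · rw [← hA1, mul_geom_sum, ← pow_mul, hfac]
    · refine Commute.sum_left _ _ _ fun j _ => ?_
      rw [← hA2]
      exact (((Commute.refl A).pow_pow (s - 1) (s + 1)).pow_left j).sub_right (Commute.one_right _)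
  have hZ2 : ∃ S2, Z - 1 = (N * A - 1) * S2 := by
    refine ⟨∑ j ∈ Finset.range (s - 1), (A ^ (s + 1)) ^ j, ?_⟩
    rw [← hA2, mul_geom_sum, ← pow_mul, mul_comm, hfac]
  obtain ⟨S1, e1, hc⟩ := hZ1
  obtain ⟨S2, e2⟩ := hZ2
  have hsq : (Z - 1) * (Z - 1) = 0 := by
    calc (Z - 1) * (Z - 1) = (N * A' - 1) * S1 * ((N * A - 1) * S2) := by rw [← e1, ← e2]
      _ = (N * A' - 1) * (S1 * (N * A - 1)) * S2 := by simp only [mul_assoc]
      _ = (N * A' - 1) * ((N * A - 1) * S1) * S2 := by rw [hc.eq]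
      _ = (N * A' - 1) * (N * A - 1) * (S1 * S2) := by simp only [mul_assoc]
      _ = 0 := by rw [hprod, zero_mul]
  haveI : CharP M2 r := inferInstance
  have hr0 : (Z - 1) ^ r = 0 := pow_eq_zero_of_le hr.two_le (by rw [pow_two, hsq])
  rw [sub_pow_char_of_commute (p := r) (Commute.one_right _), one_pow, sub_eq_zero, ← pow_mul] at hr0
  exact Subtype.ext (by rw [Matrix.SpecialLinearGroup.coe_pow, ← hA, hr0, Matrix.SpecialLinearGroup.coe_one])

/-- `(q₀²)^o - 1` is divisible by `o (q₀² - 1)` modulo the prime `p ∣ o` dividing `q₀² - 1`. -/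
theorem dvd_pow_sub_one {p a o e : ℕ} (ha : 1 ≤ a) (he : p ^ e ∣ a - 1) (hpa : p ∣ a - 1) (hpo : p ∣ o) :
    p ^ (e + 1) ∣ a ^ o - 1 := by
  rw [← geom_sum_mul_of_one_le ha o, pow_succ, mul_comm (p ^ e)]
  refine Nat.mul_dvd_mul ?_ he
  rw [← ZMod.natCast_eq_zero_iff] at hpa ⊢
  rw [Nat.cast_sub ha, Nat.cast_one, sub_eq_zero] at hpa
  rw [Nat.cast_sum]
  simp only [Nat.cast_pow, hpa, one_pow, Finset.sum_const, Finset.card_range, nsmul_eq_mul, mul_one]
  exact (ZMod.natCast_eq_zero_iff o p).2 hpo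

/-- A field automorphism of `p`-power order centralises no Sylow `p`-subgroup. -/
theorem moves_sylow {p : ℕ} [Fact p.Prime] (hp2 : p ≠ 2)
    (h8 : Fintype.card F % 8 = 3 ∨ Fintype.card F % 8 = 5) (h11 : 11 ≤ Fintype.card F)
    {β : MulAut PSL2} (hθ : fldHom β ≠ 1) (hpp : ∃ j, orderOf (fldHom β) = p ^ j)
    (hdvd : p ∣ Nat.card PSL2) (T : Sylow p PSL2) : ∃ t ∈ T, β t ≠ t := by
  classical
  have hp := (Fact.out : p.Prime)
  by_contra hno
  push Not at hno
  -- it suffices to give one `p`-subgroup centralised by no such automorphism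
  suffices h : ∃ T₀ : Subgroup PSL2, IsPGroup p T₀ ∧
      ∀ (g : GL (Fin 2) F), ¬ ∀ t ∈ T₀, (semi g (fldHom β) : MulAut PSL2) t = t by
    obtain ⟨T₀, hT₀, hbad⟩ := h
    obtain ⟨T', hT'⟩ := hT₀.exists_le_sylow
    obtain ⟨c, hc⟩ := MulAction.exists_smul_eq PSL2 T T'
    set β' : MulAut PSL2 := MulAut.conj c * β * (MulAut.conj c)⁻¹ with hβ'
    have hfix : ∀ t ∈ T₀, β' t = t := by
      intro t ht
      have h := hT' ht
      rw [← hc, Sylow.coe_subgroup_smul] at h
      obtain ⟨w, hw, rfl⟩ := h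
      show MulAut.conj c (β ((MulAut.conj c)⁻¹ (MulAut.conj c w))) = MulAut.conj c w
      rw [show (MulAut.conj c)⁻¹ (MulAut.conj c w) = w from MulEquiv.symm_apply_apply _ w, hno w hw]
    obtain ⟨g, σ, hg⟩ := exists_semi β'
    have hσ : σ = fldHom β := by
      have h1 : fldHom β' = fldHom β := by
        have hinn : fldHom (MulAut.conj c : MulAut PSL2) = 1 := fldHom_inn ⟨c, rfl⟩
        rw [hβ', map_mul, map_mul, map_inv, hinn, one_mul, inv_one, mul_one]
      rw [← h1, hg, fldHom_semi]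
    subst hσ
    exact hbad g fun t ht => hg ▸ hfix t ht
  set σ := fldHom β with hσdef
  obtain ⟨r, hr⟩ := CharP.exists F
  haveI := hr
  obtain ⟨a', hrp, hcard⟩ := FiniteField.card F r
  haveI : Fact r.Prime := ⟨hrp⟩
  have h2 : (2 : F) ≠ 0 := two_ne_zero_of_odd (Nat.odd_iff.2 (by omega))
  obtain ⟨Fx, hFx, hFcard⟩ := exists_fixed_field σ
  by_cases hpr : p = r
  · subst hpr
    let hom : Multiplicative F →* PSL2 :=
      MonoidHom.mk' (fun a => X (show (0 : Fin 2) ≠ 1 by decide) a.toAdd) fun a b => X_add _ _ _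
    refine ⟨hom.range, ?_, fun g hg => ?_⟩
    · rintro ⟨_, a, rfl⟩
      refine ⟨1, Subtype.ext ?_⟩
      rw [pow_one, Subgroup.coe_pow, Subgroup.coe_one, ← map_pow,
        show a ^ p = 1 from Multiplicative.toAdd.injective (by
          rw [toAdd_pow, toAdd_one, nsmul_eq_mul, CharP.cast_eq_zero, zero_mul]), map_one]
    refine hθ (RingEquiv.ext fun a => ?_)
    have e : ∀ a : F, (g : M2) * (Matrix.transvection 0 1 (σ a)) =
        Matrix.transvection 0 1 a * (g : M2) := by
      intro a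
      have h := hg (hom (Multiplicative.ofAdd a)) ⟨_, rfl⟩
      change (semi g σ : MulAut PSL2) (QuotientGroup.mk _) = QuotientGroup.mk _ at h
      rw [semi_mk] at h
      obtain ⟨c, hc2, hc⟩ := exists_smul_of_mk_eq h.symm
      rw [slSemi_coe, Matrix.SpecialLinearGroup.transvection_coe] at hc
      have hmap : (Matrix.transvection (0 : Fin 2) 1 a : M2).map σ = Matrix.transvection 0 1 (σ a) := by
        ext i j
        fin_cases i <;> fin_cases j <;> simp [Matrix.transvection]
      simp only [toAdd_ofAdd] at hc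
      change Matrix.transvection 0 1 a = c • ((g : M2) * (Matrix.transvection 0 1 a).map σ * ((g⁻¹ : GL (Fin 2) F) : M2)) at hc
      rw [hmap] at hc
      have htr := congrArg Matrix.trace hc
      rw [Matrix.trace_smul, Matrix.trace_mul_comm, ← mul_assoc, Units.inv_mul, one_mul,
        Matrix.trace_fin_two, Matrix.trace_fin_two] at htr
      simp [Matrix.transvection] at htr
      have hc1 : c = 1 := by
        have : c * 2 = 1 * 2 := by linear_combination -htr
        exact mul_right_cancel₀ h2 this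
      rw [hc1, one_smul] at hc
      conv_rhs => rw [hc, mul_assoc _ _ (g : M2), Units.inv_mul, mul_one]
    have h1 := e 1
    have ha := e a
    rw [map_one] at h1
    have h10 := congrFun (congrFun h1 0) 0
    have h11' := congrFun (congrFun h1 0) 1
    have ha' := congrFun (congrFun ha 0) 1
    simp [Matrix.mul_apply, Fin.sum_univ_two, Matrix.transvection] at h10 h11' ha'
    have hd : (g : M2).det ≠ 0 := ((Matrix.isUnit_iff_isUnit_det _).1 g.isUnit).ne_zero
    rw [Matrix.det_fin_two, h10, mul_zero, sub_zero] at hd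
    show σ a = a
    refine mul_left_cancel₀ (left_ne_zero_of_mul hd) ?_
    linear_combination ha' - a * h11'
  -- a cyclic torus part
  obtain ⟨D⟩ := JanThom.exists_lData (F := F) h8 h11
  set Q : ℤ := if Fintype.card F % 8 = 3 then (Fintype.card F : ℤ) else -(Fintype.card F : ℤ)
  set q := Fintype.card F
  have hQq : Q.natAbs = q := by simp only [Q]; split_ifs <;> simp [q]
  have h2k := D.k_eq
  have h4h := D.h_eq
  have hhk : q ^ 2 - 1 = 8 * (D.h * D.k) := by
    have e : ((q ^ 2 - 1 : ℕ) : ℤ) = ((8 * (D.h * D.k) : ℕ) : ℤ) := by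
      push_cast [Nat.cast_sub (Nat.one_le_pow 2 q (by omega))]
      have h1 : (8 * ((D.h : ℤ) * D.k)) = ((Q + 1).natAbs : ℤ) * ((Q - 1).natAbs : ℤ) := by
        rw [← h2k, ← h4h]; push_cast; ring
      rw [h1, Int.natCast_natAbs, Int.natCast_natAbs, ← abs_mul,
        show (q : ℤ) ^ 2 = Q ^ 2 by rw [← hQq, Int.natCast_natAbs, sq_abs],
        abs_of_nonneg (by nlinarith [D.Q_large, Int.natAbs_le_iff_sq_le.1 (le_refl Q.natAbs), sq_abs Q, abs_nonneg Q])]
      ring
    exact_mod_cast e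
  have hcoph : Nat.Coprime D.h D.k := D.coprime_orders.1
  have hp8 : ¬ p ∣ 8 := fun h =>
    hp2 ((Nat.prime_dvd_prime_iff_eq hp Nat.prime_two).1 (hp.dvd_of_dvd_pow (show p ∣ 2 ^ 3 from h)))
  have hpq : p ∣ D.h * D.k := by
    have h := D.card_L
    rw [hQq, hhk] at h
    have h' : p ∣ q * (8 * (D.h * D.k)) := h ▸ dvd_mul_of_dvd_right hdvd 2
    rcases hp.dvd_mul.1 h' with h' | h'
    · exact absurd ((Nat.prime_dvd_prime_iff_eq hp hrp).1 (hp.dvd_of_dvd_pow (hcard ▸ h'))) hpr
    · exact (hp.dvd_mul.1 h').resolve_left hp8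
  have hq2 : q ^ 2 - 1 ≠ 0 := by
    have : 11 ^ 2 ≤ q ^ 2 := Nat.pow_le_pow_left h11 2
    omega
  set e := (D.h * D.k).factorization p with he
  have hhk0 : D.h * D.k ≠ 0 := fun h0 => hq2 (by rw [hhk, h0, mul_zero])
  have he1 : 1 ≤ e := hp.factorization_pos_of_dvd hhk0 hpq
  have hedvd : p ^ e ∣ D.h * D.k := Nat.ordProj_dvd _ _
  have hemax : ¬ p ^ (e + 1) ∣ q ^ 2 - 1 := fun h => by
    rw [hhk] at h
    exact Nat.pow_succ_factorization_not_dvd hhk0 hp
      ((((hp.coprime_iff_not_dvd).2 hp8).pow_left _).dvd_of_dvd_mul_left h)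
  obtain ⟨l, hl⟩ : ∃ l : PSL2, orderOf l = p ^ e := by
    have hZ : ∀ (Z : Subgroup PSL2), IsCyclic Z → p ^ e ∣ Nat.card Z → ∃ l : PSL2, orderOf l = p ^ e := by
      intro Z _ hdv
      obtain ⟨z, hz⟩ := IsCyclic.exists_ofOrder_eq_natCard (α := Z)
      refine ⟨((z ^ (Nat.card Z / p ^ e) : Z) : PSL2), ?_⟩
      rw [Subgroup.orderOf_coe, ← hz, orderOf_pow_orderOf_div (by rw [hz]; exact Nat.card_pos.ne') (hz.symm ▸ hdv)]
    rcases (Nat.Coprime.isPrimePow_dvd_mul hcoph ⟨p, e, hp.prime, he1, rfl⟩).1 hedvd with h | h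
    · exact hZ D.Zh D.Zh_cyclic (D.card_Zh.symm ▸ h)
    · exact hZ D.Zk D.Zk_cyclic (D.card_Zk.symm ▸ h)
  refine ⟨Subgroup.zpowers l, IsPGroup.of_card (n := e) (by rw [Nat.card_zpowers, hl]), fun g hg => ?_⟩
  have hlodd : Odd (orderOf l) := by rw [hl]; exact (hp.odd_of_ne_two hp2).pow
  obtain ⟨B, rfl, hB⟩ := MaxCent.exists_odd_lift hlodd
  have hfix := hg _ (Subgroup.mem_zpowers _)
  rw [semi_mk] at hfix
  obtain ⟨c, hc2, hc⟩ := exists_smul_of_mk_eq hfix.symm
  rw [slSemi_coe] at hc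
  have hc1 : c = 1 := by
    set n := orderOf (QuotientGroup.mk B : PSL2)
    have hBn : ((B : M2)) ^ n = 1 := by
      rw [← Matrix.SpecialLinearGroup.coe_pow, hB, Matrix.SpecialLinearGroup.coe_one]
    have h := congrArg (fun X : M2 => X ^ n) hc
    rw [smul_pow, Units.conj_pow, hBn] at h
    rw [show (B : M2).map σ = σ.toRingHom.mapMatrix (B : M2) from rfl, ← map_pow, hBn, map_one, mul_one,
      Units.mul_inv] at h
    have h00 := congrFun (congrFun h 0) 0
    simp at h00
    obtain ⟨j, hj⟩ := hlodd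
    rw [hj, pow_succ, pow_mul, hc2, one_pow, one_mul] at h00
    exact h00.symm
  rw [hc1, one_smul] at hc
  have htrace : σ (B : M2).trace = (B : M2).trace := by
    have h := congrArg Matrix.trace hc
    rw [Matrix.trace_mul_comm, ← mul_assoc, Units.inv_mul, one_mul] at h
    simp only [Matrix.trace_fin_two, Matrix.map_apply] at h ⊢
    rw [map_add]
    exact h.symm
  haveI : Fintype Fx := Fintype.ofFinite _
  haveI : CharP Fx r := (Fx.subtype.charP_iff Fx.subtype.injective r).2 ‹_›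
  obtain ⟨i, -, hi⟩ := FiniteField.card Fx r
  have htq : (B : M2).trace ^ r ^ (i : ℕ) = (B : M2).trace := by
    have h := FiniteField.pow_card (⟨(B : M2).trace, (hFx _).2 htrace⟩ : Fx)
    rw [hi] at h
    exact congrArg Subtype.val h
  have hord := orderOf_dvd_of_pow_eq_one (pow_eq_one_of_trace B htq)
  have hord' : orderOf (QuotientGroup.mk B : PSL2) ∣ orderOf B :=
    orderOf_map_dvd (QuotientGroup.mk' _) B
  rw [hl] at hord'
  set a := (r ^ (i : ℕ)) ^ 2
  have hea : p ^ e ∣ a - 1 :=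
    (((Nat.coprime_primes hp hrp).2 hpr).pow_left e).dvd_of_dvd_mul_right (hord'.trans hord)
  have ha1 : 1 ≤ a := Nat.one_le_pow _ _ (Nat.one_le_pow _ _ hrp.pos)
  obtain ⟨j, hj⟩ := hpp
  have hpo : p ∣ orderOf σ := by
    rw [hj]
    rcases Nat.eq_zero_or_pos j with rfl | hj0
    · exact absurd (orderOf_eq_one_iff.1 (by rw [hj, pow_zero])) hθ
    · exact dvd_pow_self p hj0.ne'
  refine hemax ?_
  have hqa : q ^ 2 = a ^ orderOf σ := by
    rw [hFcard, Nat.card_eq_fintype_card, hi, ← pow_mul, ← pow_mul, ← pow_mul]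
    simp only [a, ← pow_mul]
    congr 1
    ring
  rw [hqa]
  exact dvd_pow_sub_one ha1 hea ((dvd_pow_self p (by omega)).trans hea) hpo

end Cfsg.Agent.AllAbelian
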