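import Cfsg.Agent.Lib.J1.Extra

/-!
In the Janko group J₁ an element of order 11 is normalised, not centralised, by one of order 5, and an
element of order 19 by one of order 3.
-/

set_option autoImplicit false

namespace Cfsg.Agent.AllAbelian

open Cfsg.Agent.J1 Cfsg.Agent.J1Cert Cfsg.Agent.J1Mat
open Cfsg.Spor (J1)

theorem j1_exists {wy ww : List ℕ} {p m k : ℕ} [Fact p.Prime] (hk : 1 < k) (hkp : k < p) (hm : Odd m)
    (h1 : powN (wordVal wy) p = idCode) (h2 : wordVal wy ≠ idCode) (h3 : powN (wordVal ww) m = idCode)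
    (h4 : mul (wordVal ww) (wordVal wy) = mul (powN (wordVal wy) k) (wordVal ww)) :
    ∃ y w : J1, orderOf y = p ∧ Odd (orderOf w) ∧ w * y * w⁻¹ ∈ Subgroup.zpowers y ∧ w * y ≠ y * w := by
  have hy1 : el wy ≠ 1 := fun e => h2 (by rw [← cd_el, e, cd_one])
  have hy : orderOf (el wy) = p :=
    orderOf_eq_prime (cd_injective (by rw [cd_pow, cd_el, h1, cd_one])) hy1
  have hw : el ww * el wy = el wy ^ k * el ww :=
    cd_injective (by rw [cd_mul, cd_mul, cd_pow, cd_el, cd_el, h4])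
  refine ⟨el wy, el ww, hy, hm.of_dvd_nat (orderOf_dvd_of_pow_eq_one (cd_injective (by
    rw [cd_pow, cd_el, h3, cd_one]))), ?_, fun e => ?_⟩
  · rw [hw, mul_inv_cancel_right]
    exact pow_mem (Subgroup.mem_zpowers _) k
  · rw [hw] at e
    have h := mul_right_cancel e
    have h' : el wy ^ k = el wy ^ 1 := by rw [h, pow_one]
    rw [pow_inj_mod, hy, Nat.mod_eq_of_lt hkp, Nat.mod_eq_of_lt (by omega : 1 < p)] at h'
    omega

theorem j1_eleven : ∃ y w : J1, orderOf y = 11 ∧ Odd (orderOf w) ∧ w * y * w⁻¹ ∈ Subgroup.zpowers y ∧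
    w * y ≠ y * w := by
  haveI : Fact (Nat.Prime 11) := ⟨by norm_num⟩
  exact j1_exists (wy := [1, 1, 0]) (ww := [0, 1, 0, 1, 0, 1, 1, 1, 0, 0, 0]) (m := 5) (k := 3)
    (by norm_num) (by norm_num) (by decide) (by decide +kernel) (by decide +kernel) (by decide +kernel)
    (by decide +kernel)

theorem j1_nineteen : ∃ y w : J1, orderOf y = 19 ∧ Odd (orderOf w) ∧ w * y * w⁻¹ ∈ Subgroup.zpowers y ∧
    w * y ≠ y * w := by
  haveI : Fact (Nat.Prime 19) := ⟨by norm_num⟩
  exact j1_exists (wy := [1, 0, 0, 0]) (ww := [0, 1, 1, 0, 0, 0, 0, 0, 1, 1, 0, 1, 1, 0, 1]) (m := 3) (k := 7)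
    (by norm_num) (by norm_num) (by decide) (by decide +kernel) (by decide +kernel) (by decide +kernel)
    (by decide +kernel)

end Cfsg.Agent.AllAbelian
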