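import Mathlib

/-!
An automizer of an elementary abelian Sylow `p`-subgroup of order `p²` with abelian Sylow subgroups,
in which whoever maps a line to itself fixes it pointwise, and in which some element of odd order fixes
that line and is non-trivial, fixes the line.
-/

set_option autoImplicit false
set_option linter.unusedSectionVars false
set_option linter.style.haveILetI false

namespace Cfsg.Agent.AllAbelian

open Matrix Subgroup

universe u

section GLTwo

variable {p : ℕ} [Fact p.Prime]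

local notation "M2" => Matrix (Fin 2) (Fin 2) (ZMod p)
local notation "GL2" => GL (Fin 2) (ZMod p)

theorem sq_eq (M : M2) : M * M = M.trace • M - M.det • (1 : M2) := by
  ext i j
  fin_cases i <;> fin_cases j <;>
    simp [Matrix.mul_apply, Fin.sum_univ_two, Matrix.trace_fin_two, Matrix.det_fin_two] <;> ring

theorem eq_one_of_sq_nil {W : Subgroup GL2} (hW : ¬ p ∣ Nat.card W) {g : GL2} (hg : g ∈ W)
    (h : ((g : M2) - 1) * ((g : M2) - 1) = 0) : g = 1 := by
  have hp : (g : M2) ^ p = 1 := by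
    have h1 : ((g : M2) - 1) ^ p = 0 :=
      pow_eq_zero_of_le (Fact.out : p.Prime).two_le (by rw [pow_two, h])
    haveI : CharP M2 p := inferInstance
    rw [sub_pow_char_of_commute (p := p) (Commute.one_right _), one_pow, sub_eq_zero] at h1
    exact h1
  have hp' : g ^ p = 1 := Units.ext (by rw [Units.val_pow_eq_pow_val, hp, Units.val_one])
  refine orderOf_eq_one_iff.1 (Nat.eq_one_of_dvd_coprimes ?_ (orderOf_dvd_of_pow_eq_one hp')
    (orderOf_dvd_natCard W hg))
  exact (Fact.out : p.Prime).coprime_iff_not_dvd.2 hW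

theorem fix_line {W : Subgroup GL2} (hp2 : p ≠ 2) (hW : ¬ p ∣ Nat.card W)
    (hab : ∀ (l : ℕ), l.Prime → ∀ T : Subgroup GL2, T ≤ W → IsPGroup l T → ∀ a ∈ T, ∀ b ∈ T, a * b = b * a)
    (hline : ∀ w ∈ W, (w : M2) 1 0 = 0 → (w : M2) 0 0 = 1)
    {d₁ : GL2} (hd₁ : d₁ ∈ W) (hd₁0 : (d₁ : M2) 1 0 = 0) (hdo : Odd (orderOf d₁)) (hd₁1 : d₁ ≠ 1) :
    ∀ w ∈ W, (w : M2) 1 0 = 0 := by
  classical
  -- a power of prime order
  obtain ⟨m, hm, hmd⟩ := Nat.exists_prime_and_dvd (mt orderOf_eq_one_iff.1 hd₁1)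
  haveI : Fact m.Prime := ⟨hm⟩
  have hmodd : Odd m := hdo.of_dvd_nat hmd
  obtain ⟨d, hd, hd0, hdord⟩ : ∃ d ∈ W, (d : M2) 1 0 = 0 ∧ orderOf d = m := by
    refine ⟨d₁ ^ (orderOf d₁ / m), pow_mem hd₁ _, ?_, ?_⟩
    · induction (orderOf d₁ / m) with
      | zero => simp
      | succ n ih =>
        rw [pow_succ, Units.val_mul, Matrix.mul_apply, Fin.sum_univ_two, ih, hd₁0, zero_mul, zero_add,
          mul_zero]
    · rw [orderOf_pow_orderOf_div (orderOf_pos d₁).ne' hmd]
  have hd1 : d ≠ 1 := fun e => hm.ne_one (by rw [← hdord, e, orderOf_one])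
  have hd00 := hline d hd hd0
  have hd11 : (d : M2) 1 1 ≠ 1 := by
    intro e
    refine hd1 (eq_one_of_sq_nil hW hd ?_)
    ext i j
    fin_cases i <;> fin_cases j <;> simp [Matrix.mul_apply, Fin.sum_univ_two, hd0, hd00, e]
  have hcen : ∀ w ∈ W, w * d = d * w → (w : M2) 1 0 = 0 := by
    intro w _ e
    have h := congrArg (fun g : GL2 => (g : M2) 1 0) e
    simp only [Units.val_mul, Matrix.mul_apply, Fin.sum_univ_two, hd0, hd00, mul_one, mul_zero,
      add_zero, zero_mul, zero_add] at h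
    rw [eq_comm, ← sub_eq_zero] at h
    have h' : ((d : M2) 1 1 - 1) * (w : M2) 1 0 = 0 := by linear_combination h
    exact (mul_eq_zero.1 h').resolve_left (sub_ne_zero.2 hd11)
  have hfix : ∀ w ∈ W, w * d = d * w → (w : M2).det = 1 → w = 1 := by
    intro w hw e hdet
    have h10 := hcen w hw e
    have h00 := hline w hw h10
    rw [Matrix.det_fin_two, h00, h10, one_mul, mul_zero, sub_zero] at hdet
    refine eq_one_of_sq_nil hW hw ?_
    ext i j
    fin_cases i <;> fin_cases j <;> simp [Matrix.mul_apply, Fin.sum_univ_two, h10, h00, hdet]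
  -- the determinant one part
  set D : Subgroup GL2 := W ⊓ (GeneralLinearGroup.det : GL2 →* (ZMod p)ˣ).ker with hD
  have hDdet : ∀ {w : GL2}, w ∈ D ↔ w ∈ W ∧ (w : M2).det = 1 := fun {w} => by
    rw [hD, mem_inf, MonoidHom.mem_ker, Units.ext_iff]
    exact Iff.rfl
  by_cases hDbot : D = ⊥
  · intro w hw
    refine hcen w hw ?_
    have h : w * d * (d * w)⁻¹ ∈ D := by
      refine mem_inf.2 ⟨mul_mem (mul_mem hw hd) (inv_mem (mul_mem hd hw)), ?_⟩
      rw [MonoidHom.mem_ker]
      simp only [map_mul, map_inv, _root_.mul_inv_rev]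
      rw [mul_comm (GeneralLinearGroup.det w) (GeneralLinearGroup.det d)]
      group
    rw [hDbot, mem_bot, mul_inv_eq_one] at h
    exact h
  exfalso
  have hdconj : ∀ w ∈ D, d * w * d⁻¹ ∈ D := fun w hw => by
    obtain ⟨hw1, hw2⟩ := mem_inf.1 hw
    refine mem_inf.2 ⟨mul_mem (mul_mem hd hw1) (inv_mem hd), ?_⟩
    rw [MonoidHom.mem_ker] at hw2 ⊢
    rw [map_mul, map_mul, hw2, mul_one, map_inv, mul_inv_cancel]
  set Z : Subgroup GL2 := zpowers d with hZdef
  have hZm : IsPGroup m Z := IsPGroup.of_card (n := 1) (by rw [Nat.card_zpowers, hdord, pow_one])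
  have hZD : Z ≤ normalizer (D : Set GL2) := by
    rw [zpowers_le, mem_normalizer_iff]
    intro w
    refine ⟨hdconj w, fun h => ?_⟩
    obtain ⟨h1, h2⟩ := mem_inf.1 h
    refine mem_inf.2 ⟨?_, ?_⟩
    · have := mul_mem (mul_mem (inv_mem hd) h1) hd
      simpa [mul_assoc] using this
    · rw [MonoidHom.mem_ker, map_mul, map_mul, map_inv, mul_comm (GeneralLinearGroup.det d),
        mul_inv_cancel_right] at h2
      exact h2
  letI act : MulDistribMulAction Z D :=
    MulDistribMulAction.compHom D ((D.normalizerMonoidHom).comp (inclusion hZD))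
  have hfp : ∀ w : D, w ∈ MulAction.fixedPoints Z D ↔ w = 1 := by
    intro w
    refine ⟨fun h => ?_, fun h g => by rw [h, smul_one]⟩
    have h' : d * (w : GL2) * d⁻¹ = w := congrArg Subtype.val (h ⟨d, mem_zpowers d⟩)
    obtain ⟨hw1, hw2⟩ := hDdet.1 w.2
    exact Subtype.ext (hfix w hw1 (mul_inv_eq_iff_eq_mul.1 h').symm hw2)
  have hmD : ¬ m ∣ Nat.card D := by
    intro h
    have h1 := hZm.card_modEq_card_fixedPoints D
    have h2 : Nat.card (MulAction.fixedPoints Z D) = 1 := by
      rw [Nat.card_eq_one_iff_unique]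
      exact ⟨⟨fun a b => Subtype.ext (((hfp _).1 a.2).trans ((hfp _).1 b.2).symm)⟩, ⟨⟨1, (hfp 1).2 rfl⟩⟩⟩
    rw [h2, Nat.ModEq, Nat.mod_eq_zero_of_dvd h, Nat.mod_eq_of_lt hm.one_lt] at h1
    exact zero_ne_one h1
  obtain ⟨l, hl, hlD⟩ := Nat.exists_prime_and_dvd (n := Nat.card D) (fun h => hDbot (D.eq_bot_of_card_eq h))
  haveI : Fact l.Prime := ⟨hl⟩
  obtain ⟨T, hT⟩ : (MulAction.fixedPoints Z (Sylow l D)).Nonempty := by
    refine hZm.nonempty_fixed_point_of_prime_not_dvd_card _ fun h => hmD (h.trans ?_)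
    exact (Sylow.card_dvd_index (default : Sylow l D)).trans (Subgroup.index_dvd_card _)
  obtain ⟨α, hαT, hα1⟩ : ∃ α ∈ (T : Subgroup D), α ≠ 1 := by
    by_contra h
    push Not at h
    exact T.ne_bot_of_dvd_card hlD ((Subgroup.eq_bot_iff_forall _).2 h)
  have hβT : (⟨d, mem_zpowers d⟩ : Z) • α ∈ (T : Subgroup D) := by
    have hT' := hT ⟨d, mem_zpowers d⟩
    rw [Sylow.ext_iff, Sylow.pointwise_smul_def] at hT'
    rw [← hT']
    exact Subgroup.smul_mem_pointwise_smul _ _ _ hαT
  set β : GL2 := d * (α : GL2) * d⁻¹ with hβ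
  have hαβ : (α : GL2) * β = β * (α : GL2) := by
    refine hab l hl ((T : Subgroup D).map D.subtype) ?_ (T.isPGroup'.map _) _ ⟨α, hαT, rfl⟩ _ ⟨_, hβT, rfl⟩
    rintro _ ⟨w, -, rfl⟩
    exact (hDdet.1 w.2).1
  obtain ⟨hαW, hαd⟩ := hDdet.1 α.2
  obtain ⟨hβW, hβd⟩ := hDdet.1 (hdconj α α.2)
  have hα' : ∀ c : ZMod p, (α : GL2).val ≠ c • 1 := by
    intro c e
    refine hα1 (Subtype.ext ?_)
    have h10 : (α : GL2).val 1 0 = 0 := by rw [e]; simp
    have h00 := hline _ hαW h10
    rw [e] at h00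
    simp at h00
    refine Units.ext ?_
    rw [e, h00, one_smul]
    rfl
  have htr : β.val.trace = (α : GL2).val.trace := by
    rw [hβ, Units.val_mul, Units.val_mul, Matrix.trace_mul_comm, ← mul_assoc, ← Units.val_mul,
      inv_mul_cancel, Units.val_one, one_mul]
  have hb := sq_eq β.val
  have ha := sq_eq (α : GL2).val
  rw [hβd, one_smul] at hb
  rw [hαd, one_smul] at ha
  set t := (α : GL2).val.trace
  set A := (α : GL2).val with hA
  set B := β.val with hB
  rw [htr] at hb
  have hAB : A * B = B * A := congrArg Units.val hαβ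
  have hprod : (B - A) * (B + A - t • (1 : M2)) = 0 := by
    simp only [mul_sub, mul_add, sub_mul, mul_smul_comm, mul_one, smul_sub]
    rw [hb, ha, hAB]
    abel
  by_cases hdet : IsUnit (B - A).det
  · -- `β = α⁻¹`
    have h0 : B + A - t • (1 : M2) = 0 := by
      have := congrArg ((B - A)⁻¹ * ·) hprod
      simpa [← mul_assoc, Matrix.nonsing_inv_mul _ hdet] using this
    have hinv : β = (α : GL2)⁻¹ := by
      refine eq_inv_of_mul_eq_one_left (Units.ext ?_)
      show B * A = 1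
      rw [show B = t • (1 : M2) - A by rw [← sub_eq_zero, ← h0]; abel, sub_mul, smul_mul_assoc, one_mul, ha]
      abel
    have hiter : ∀ n : ℕ, d ^ n * (α : GL2) * (d ^ n)⁻¹ = if Even n then (α : GL2) else (α : GL2)⁻¹ := by
      intro n
      induction n with
      | zero => simp
      | succ n ih =>
        rw [pow_succ', show d * d ^ n * (α : GL2) * (d * d ^ n)⁻¹ = d * (d ^ n * (α : GL2) * (d ^ n)⁻¹) * d⁻¹ by
          group, ih]
        by_cases hn : Even n
        · rw [if_pos hn, if_neg (by rw [Nat.even_add_one]; simpa using hn)]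
          exact hinv
        · rw [if_neg hn, if_pos (by rw [Nat.even_add_one]; exact hn)]
          rw [show d * (α : GL2)⁻¹ * d⁻¹ = β⁻¹ by rw [hβ]; group, hinv, inv_inv]
    have h := hiter m
    rw [← hdord, pow_orderOf_eq_one, inv_one, one_mul, mul_one, if_neg (by rwa [hdord, Nat.not_even_iff_odd])] at h
    have h2 : A * A = 1 := by
      rw [hA, ← Units.val_mul]
      nth_rewrite 2 [h]
      rw [mul_inv_cancel, Units.val_one]
    rw [ha, sub_eq_iff_eq_add] at h2
    have ht : t ≠ 0 := by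
      intro e
      rw [e, zero_smul] at h2
      have h11 := congrFun (congrFun h2 0) 0
      simp at h11
      have h20 : ((2 : ℕ) : ZMod p) = 0 := by push_cast; linear_combination -h11
      rw [ZMod.natCast_eq_zero_iff, Nat.prime_dvd_prime_iff_eq Fact.out Nat.prime_two] at h20
      exact hp2 h20
    refine hα' (t⁻¹ * 2) ?_
    rw [show A = t⁻¹ • (t • A) by rw [smul_smul, inv_mul_cancel₀ ht, one_smul], h2, ← two_smul (ZMod p),
      smul_smul]
  · -- `β = α`
    rw [isUnit_iff_ne_zero, not_not] at hdet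
    have hn := sq_eq (B - A)
    rw [hdet, zero_smul, sub_zero, Matrix.trace_sub, htr, sub_self, zero_smul] at hn
    have hγ : β * (α : GL2)⁻¹ = 1 := by
      refine eq_one_of_sq_nil hW (mul_mem hβW (inv_mem hαW)) ?_
      have e1 : B * ((α : GL2)⁻¹).val - 1 = (B - A) * ((α : GL2)⁻¹).val := by
        rw [sub_mul, hA, Units.mul_inv]
      have hc : Commute ((α : GL2)⁻¹).val (B - A) := by
        refine (Commute.units_inv_left ?_)
        exact Commute.sub_right hAB (Commute.refl _)
      rw [Units.val_mul, ← hB, e1, mul_assoc, ← mul_assoc ((α : GL2)⁻¹).val, hc.eq,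
        show ∀ a b c : M2, a * (b * c * c) = a * b * (c * c) from fun a b c => by simp only [mul_assoc],
        hn, zero_mul]
    rw [mul_inv_eq_one, hβ, mul_inv_eq_iff_eq_mul] at hγ
    exact hα1 (Subtype.ext (hfix _ hαW hγ.symm hαd))

end GLTwo

/-- The coordinates of an elementary abelian group of order `p²`. -/
theorem exists_matrix {A : Type u} [Group A] [Finite A] {p : ℕ} [Fact p.Prime]
    (hcomm : ∀ a b : A, a * b = b * a) (hcard : Nat.card A = p ^ 2) (hexp : ∀ a : A, a ^ p = 1)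
    {x : A} (hx1 : x ≠ 1) :
    ∃ ρ : MulAut A →* GL (Fin 2) (ZMod p), Function.Injective ρ ∧
      (∀ a : MulAut A, (ρ a).val 1 0 = 0 ↔ a x ∈ zpowers x) ∧
      ∀ a : MulAut A, a x = x → (ρ a).val 0 0 = 1 := by
  classical
  have hp := (Fact.out : p.Prime)
  have hxp : orderOf x = p := orderOf_eq_prime (hexp x) hx1
  obtain ⟨z, hzx⟩ : ∃ z, z ∉ zpowers x := by
    by_contra h
    push Not at h
    have hle : zpowers x = ⊤ := eq_top_iff.2 fun a _ => h a
    have h' := congrArg (fun H : Subgroup A => Nat.card H) hle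
    simp only [Nat.card_zpowers, hxp, card_top, hcard] at h'
    nlinarith [hp.two_le]
  have hpow : ∀ (g : A) (i j : ZMod p), g ^ (i + j).val = g ^ i.val * g ^ j.val := fun g i j => by
    rw [← pow_add, ZMod.val_add, ← pow_eq_pow_mod _ (hexp g)]
  let c : Multiplicative (Fin 2 → ZMod p) →* A :=
    { toFun := fun v => x ^ (v.toAdd 0).val * z ^ (v.toAdd 1).val
      map_one' := by simp
      map_mul' := fun v w => by
        simp only [toAdd_mul, Pi.add_apply, hpow]
        rw [mul_assoc, mul_assoc, ← mul_assoc (x ^ (w.toAdd 0).val), hcomm (x ^ (w.toAdd 0).val),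
          mul_assoc] }
  have hci : Function.Injective c := by
    rw [injective_iff_map_eq_one]
    intro v h
    replace h : x ^ (v.toAdd 0).val * z ^ (v.toAdd 1).val = 1 := h
    have hv1 : v.toAdd 1 = 0 := by
      by_contra hne
      refine hzx ?_
      have hmem : z ^ (v.toAdd 1).val ∈ zpowers x := by
        rw [eq_inv_of_mul_eq_one_right h]; exact inv_mem (pow_mem (mem_zpowers x) _)
      have hco : Nat.Coprime (v.toAdd 1).val (orderOf z) := by
        refine Nat.Coprime.coprime_dvd_right (orderOf_dvd_of_pow_eq_one (hexp z)) ?_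
        refine ((hp.coprime_iff_not_dvd).2 fun hdv => ?_).symm
        have := Nat.le_of_dvd (Nat.pos_of_ne_zero (mt (ZMod.val_eq_zero _).1 hne)) hdv
        have := ZMod.val_lt (v.toAdd 1)
        omega
      obtain ⟨j, hj⟩ := exists_pow_eq_self_of_coprime hco
      rw [← hj]
      exact pow_mem hmem _
    rw [hv1, ZMod.val_zero, pow_zero, mul_one] at h
    have h0 : p ∣ (v.toAdd 0).val := (dvd_of_eq hxp.symm).trans (orderOf_dvd_of_pow_eq_one h)
    have hv0 : v.toAdd 0 = 0 := by
      rw [← ZMod.val_eq_zero]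
      exact Nat.eq_zero_of_dvd_of_lt h0 (ZMod.val_lt _)
    refine Multiplicative.toAdd.injective (funext fun i => ?_)
    fin_cases i <;> assumption
  have hcb : Function.Bijective c := by
    refine hci.bijective_of_nat_card_le (le_of_eq ?_)
    rw [Nat.card_congr (Multiplicative.toAdd : Multiplicative (Fin 2 → ZMod p) ≃ _), Nat.card_fun,
      Nat.card_zmod, Nat.card_eq_fintype_card (α := Fin 2), Fintype.card_fin, hcard]
  let e := MulEquiv.ofBijective c hcb
  let lin : MulAut A → ((Fin 2 → ZMod p) →ₗ[ZMod p] (Fin 2 → ZMod p)) := fun a =>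
    AddMonoidHom.toZModLinearMap p
      (AddMonoidHom.mk' (fun v => (e.symm (a (e (Multiplicative.ofAdd v)))).toAdd) fun v w => by simp)
  have hlin : ∀ (a : MulAut A) (v : Fin 2 → ZMod p),
      lin a v = (e.symm (a (e (Multiplicative.ofAdd v)))).toAdd := fun a v => rfl
  let ρ₀ : MulAut A →* Matrix (Fin 2) (Fin 2) (ZMod p) :=
    { toFun := fun a => LinearMap.toMatrix' (lin a)
      map_one' := by
        rw [← LinearMap.toMatrix'_id]
        refine congrArg _ (LinearMap.ext fun v => ?_)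
        rw [hlin, MulAut.one_apply, MulEquiv.symm_apply_apply, toAdd_ofAdd, LinearMap.id_apply]
      map_mul' := fun a b => by
        rw [← LinearMap.toMatrix'_comp]
        refine congrArg _ (LinearMap.ext fun v => ?_)
        rw [LinearMap.comp_apply, hlin, hlin, hlin, ofAdd_toAdd, MulEquiv.apply_symm_apply, MulAut.mul_apply] }
  let ρ : MulAut A →* GL (Fin 2) (ZMod p) := ρ₀.toHomUnits
  have hρ : ∀ (a : MulAut A) (v : Fin 2 → ZMod p),
      c (Multiplicative.ofAdd ((ρ a).val *ᵥ v)) = a (c (Multiplicative.ofAdd v)) := fun a v => by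
    rw [show (ρ a).val *ᵥ v = lin a v by
      rw [← Matrix.toLin'_apply]
      exact LinearMap.congr_fun (Matrix.toLin'_toMatrix' (lin a)) v, hlin, ofAdd_toAdd]
    exact e.apply_symm_apply _
  have hcx : c (Multiplicative.ofAdd (Pi.single 0 1)) = x := by
    show x ^ ((Pi.single 0 1 : Fin 2 → ZMod p) 0).val * z ^ ((Pi.single 0 1 : Fin 2 → ZMod p) 1).val = x
    simp [ZMod.val_one]
  have hcol : ∀ a : MulAut A, c (Multiplicative.ofAdd ((ρ a).val.col 0)) = a x := fun a => by
    rw [← Matrix.mulVec_single_one, hρ, hcx]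
  refine ⟨ρ, fun a b h => MulEquiv.ext fun w => ?_, fun a => ?_, fun a h => ?_⟩
  · obtain ⟨v, rfl⟩ := hcb.2 w
    rw [← ofAdd_toAdd v, ← hρ, h, hρ]
  · rw [← hcol a]
    constructor
    · intro h0
      show x ^ ((ρ a).val.col 0 0).val * z ^ ((ρ a).val.col 0 1).val ∈ zpowers x
      rw [Matrix.col_apply, Matrix.col_apply, h0, ZMod.val_zero, pow_zero, mul_one]
      exact pow_mem (mem_zpowers x) _
    · intro h
      obtain ⟨j, hj⟩ := mem_zpowers_iff.1 h
      have hj' : x ^ j = c (Multiplicative.ofAdd (Pi.single 0 1) ^ j) := by rw [map_zpow, hcx]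
      have h2 := congrFun (congrArg Multiplicative.toAdd (hci (hj'.symm.trans hj))) 1
      simpa [Matrix.col_apply] using h2.symm
  · have h2 := congrFun (congrArg Multiplicative.toAdd (hci ((hcol a).trans (h.trans hcx.symm)))) 0
    simpa [Matrix.col_apply] using h2

/-- The group form. -/
theorem fix_of_elementary {G : Type u} [Group G] [Finite G] {p : ℕ} [Fact p.Prime] (hp2 : p ≠ 2)
    (hA : ∀ (l : ℕ), l.Prime → ∀ T : Sylow l G, IsMulCommutative (T : Subgroup G))
    (P : Sylow p G) (hcard : Nat.card (P : Subgroup G) = p ^ 2) (hexp : ∀ z ∈ P, z ^ p = 1)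
    {x : G} (hx : x ∈ P) (hx1 : x ≠ 1)
    (hline : ∀ n ∈ normalizer (P : Set G), n * x * n⁻¹ ∈ zpowers x → n * x = x * n)
    {d : G} (hd : d ∈ normalizer (P : Set G)) (hdx : d * x = x * d) (hdo : Odd (orderOf d))
    (hdP : d ∉ centralizer (P : Set G)) :
    ∀ n ∈ normalizer (P : Set G), n * x = x * n := by
  classical
  have hp := (Fact.out : p.Prime)
  have hPc := (hA p hp P).is_comm.comm
  set N : Subgroup G := normalizer ((P : Subgroup G) : Set G) with hNdef
  set xP : (P : Subgroup G) := ⟨x, hx⟩ with hxP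
  obtain ⟨ρ₁, hinj, hzero, h00⟩ := exists_matrix hPc hcard (fun a => Subtype.ext (hexp a a.2))
    (x := xP) (fun e => hx1 (congrArg Subtype.val e))
  let ψ : N →* MulAut (P : Subgroup G) := Subgroup.normalizerMonoidHom (P : Subgroup G)
  let ρ : N →* GL (Fin 2) (ZMod p) := ρ₁.comp ψ
  have hzero' : ∀ m : N, (ρ m).val 1 0 = 0 ↔ (m : G) * x * (m : G)⁻¹ ∈ zpowers x := fun m => by
    rw [show ρ m = ρ₁ (ψ m) from rfl, hzero, ← mem_map_iff_mem (P : Subgroup G).subtype_injective,
      MonoidHom.map_zpowers]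
    rfl
  intro n hn
  refine hline n hn ((hzero' ⟨n, hn⟩).1 ?_)
  have hker : (P : Subgroup G).subgroupOf N ≤ ρ.ker := by
    intro a ha
    rw [MonoidHom.mem_ker, show ρ a = ρ₁ (ψ a) from rfl, show ψ a = 1 from MulEquiv.ext fun w => Subtype.ext ?_,
      map_one]
    show (a : G) * (w : G) * (a : G)⁻¹ = w
    rw [show (a : G) * w = w * a from congrArg Subtype.val (hPc ⟨a, ha⟩ w), mul_inv_cancel_right]
  refine fix_line (W := ρ.range) hp2 ?_ ?_ ?_ ⟨⟨d, hd⟩, rfl⟩
    ((hzero' _).2 (by rw [show d * x * d⁻¹ = x by rw [hdx, mul_inv_cancel_right]]; exact mem_zpowers x))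
    ?_ ?_ _ ⟨⟨n, hn⟩, rfl⟩
  · intro hdv
    refine P.not_dvd_index (hdv.trans ?_)
    rw [← index_ker]
    refine (index_dvd_of_le hker).trans ?_
    exact relIndex_dvd_index_of_le le_normalizer
  · intro l hl T hT hTl a ha b hb
    haveI : Fact l.Prime := ⟨hl⟩
    obtain ⟨R⟩ : Nonempty (Sylow l N) := inferInstance
    let R' := R.mapSurjective (f := ρ.rangeRestrict) ρ.rangeRestrict_surjective
    obtain ⟨T', hT'⟩ := (hTl.comap_subtype (K := ρ.range)).exists_le_sylow
    obtain ⟨g, hg⟩ := MulAction.exists_smul_eq ρ.range R' T'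
    have hR : IsMulCommutative (R : Subgroup N) := by
      obtain ⟨U, hU⟩ := (R.isPGroup'.map N.subtype).exists_le_sylow
      refine ⟨⟨fun a b => Subtype.ext (Subtype.ext ?_)⟩⟩
      simpa using congrArg Subtype.val ((hA l hl U).is_comm.comm ⟨_, hU ⟨a, a.2, rfl⟩⟩ ⟨_, hU ⟨b, b.2, rfl⟩⟩)
    have key : ∀ a b : ρ.range, a ∈ (T' : Subgroup ρ.range) → b ∈ (T' : Subgroup ρ.range) → a * b = b * a := by
      intro a b ha hb
      rw [← hg, Sylow.coe_subgroup_smul, Sylow.coe_mapSurjective] at ha hb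
      obtain ⟨_, ⟨a', ha', rfl⟩, rfl⟩ := ha
      obtain ⟨_, ⟨b', hb', rfl⟩, rfl⟩ := hb
      show MulAut.conj g _ * MulAut.conj g _ = MulAut.conj g _ * MulAut.conj g _
      rw [← map_mul, ← map_mul, ← map_mul, ← map_mul]
      exact congrArg _ (congrArg _ (congrArg Subtype.val (hR.is_comm.comm ⟨a', ha'⟩ ⟨b', hb'⟩)))
    exact congrArg Subtype.val (key ⟨a, hT ha⟩ ⟨b, hT hb⟩ (hT' ha) (hT' hb))
  · rintro _ ⟨m, rfl⟩ h0
    have hc := hline m m.2 ((hzero' m).1 h0)
    refine h00 (ψ m) (Subtype.ext ?_)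
    show (m : G) * x * (m : G)⁻¹ = x
    rw [hc, mul_inv_cancel_right]
  · refine hdo.of_dvd_nat ?_
    calc orderOf (ρ ⟨d, hd⟩) ∣ orderOf (⟨d, hd⟩ : N) := orderOf_map_dvd _ _
      _ = orderOf d := orderOf_mk _ _
  · intro e
    have e' : ψ ⟨d, hd⟩ = 1 := hinj (e.trans (map_one ρ₁).symm)
    refine hdP (mem_centralizer_iff.2 fun w hw => ?_)
    have h : d * w * d⁻¹ = w := congrArg Subtype.val (DFunLike.congr_fun e' (⟨w, hw⟩ : (P : Subgroup G)))
    exact (mul_inv_eq_iff_eq_mul.1 h).symm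

end Cfsg.Agent.AllAbelian
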