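import Cfsg.Agent.Lib.AllAbelian.Cen
import Cfsg.Agent.Lib.AllAbelian.Lin
import Cfsg.Agent.Lib.AllAbelian.J1Local
import Cfsg.Agent.S2131

/-!
No element of prime order `p ≥ 5` centralises `S` in a simple group with all Sylow subgroups abelian.
-/

set_option autoImplicit false
set_option linter.unusedSectionVars false
set_option linter.style.haveILetI false

namespace Cfsg.Agent.AllAbelian

open Subgroup
open Cfsg.Agent.Walter8 (Eight LType cen)

universe u

variable {G : Type u} [Group G] [Finite G]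

namespace Ctx

variable {S : Sylow 2 G} {p : ℕ} [Fact p.Prime] {x : G} (D : Ctx S p x)
include D

theorem ne_one : x ≠ 1 := fun e => by
  have h := D.order
  rw [e, orderOf_one] at h
  have := D.five
  omega

/-- A `p`-subgroup of the centraliser of `S` is cyclic. -/
theorem cyclic_centralizer {X : Subgroup G} (hX : IsPGroup p X)
    (hle : X ≤ centralizer ((S : Subgroup G) : Set G)) : IsCyclic X := by
  obtain ⟨a, ha, ha1⟩ := D.eight.exists_out (T := {1}) (by rw [Set.ncard_singleton]; norm_num)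
  exact D.cyclic a ha ha1 X hX fun z hz =>
    mem_centralizer_singleton_iff.2 (mem_centralizer_iff.1 (hle hz) a ha).symm

theorem mem_of_centralizer {P : Sylow p G} (hxP : x ∈ P) {z : G} (hz : z ∈ P)
    (hzS : z ∈ centralizer ((S : Subgroup G) : Set G)) (hzp : z ^ p = 1) : z ∈ zpowers x :=
  mem_zpowers_of_cyclic Fact.out
    (D.cyclic_centralizer (P.2.to_le (inf_le_left : (P : Subgroup G) ⊓ _ ≤ P)) inf_le_right)
    (show x ∈ (P : Subgroup G) ⊓ centralizer ((S : Subgroup G) : Set G) from ⟨hxP, D.mem⟩) D.order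
    ⟨hz, hzS⟩ hzp

variable [IsSimpleGroup G] (hna : ¬ IsMulCommutative G)
  (hA : ∀ l : ℕ, l.Prime → ∀ P : Sylow l G, IsMulCommutative P)
include hna hA

/-- The normaliser of a Sylow subgroup containing `x` moves the line of `x`. -/
theorem false_of_line (P : Sylow p G) (hxP : x ∈ P)
    (h : ∀ n ∈ normalizer ((P : Subgroup G) : Set G), n * x * n⁻¹ ∈ zpowers x) : False :=
  D.ne_one (eq_one_of_fixed hna P (hA p Fact.out P) hxP fun n hn => D.normalizer_zpowers (by
    rw [← LEBasic.map_conj_eq_iff_mem_normalizer]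
    refine eq_of_le_of_card_ge ?_ (LEBasic.card_map_conj _ _).ge
    rw [MonoidHom.map_zpowers, zpowers_le]
    exact h n hn))

/-- The Sylow subgroups containing `x` have exponent `p` if their `p`-th powers lie in a cyclic group
containing `x`. -/
theorem exp_of_cyclic (P : Sylow p G) (hxP : x ∈ P) {X : Subgroup G} (hX : IsCyclic X) (hxX : x ∈ X)
    (hpow : ∀ y ∈ P, y ^ p ∈ X) : ∀ y ∈ P, y ^ p = 1 := by
  intro y hy
  by_contra hne
  have hp := (Fact.out : p.Prime)
  obtain ⟨k, hk⟩ := P.2 ⟨y, hy⟩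
  have hk' : y ^ p ^ k = 1 := congrArg Subtype.val hk
  have hord : orderOf (y ^ p) ∣ p ^ k := orderOf_dvd_of_pow_eq_one (by
    rw [← pow_mul, mul_comm, pow_mul, hk', one_pow])
  obtain ⟨j, -, hj⟩ := (Nat.dvd_prime_pow hp).1 hord
  have hpd : p ∣ orderOf (y ^ p) := by
    rw [hj]
    rcases Nat.eq_zero_or_pos j with rfl | h
    · exact absurd (orderOf_eq_one_iff.1 (hj.trans (pow_zero p))) hne
    · exact dvd_pow_self p h.ne'
  set w := y ^ (orderOf (y ^ p) / p) with hw
  have hwP : w ∈ P := pow_mem hy _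
  have hwo : orderOf (w ^ p) = p := by
    rw [hw, ← pow_mul, mul_comm, pow_mul]
    exact orderOf_pow_orderOf_div (orderOf_pos _).ne' hpd
  have hxw : x ∈ zpowers (w ^ p) :=
    mem_zpowers_of_cyclic hp hX (hpow w hwP) hwo hxX (D.order ▸ pow_orderOf_eq_one x)
  refine D.false_of_line hna hA P hxP fun n hn => ?_
  obtain ⟨i, hi⟩ := mem_zpowers_iff.1 hxw
  refine mem_zpowers_of_cyclic hp hX hxX D.order ?_ ?_
  · rw [← hi, ← conj_zpow, ← conj_pow]
    exact zpow_mem (hpow _ ((mem_normalizer_iff.1 hn w).1 hwP)) i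
  · rw [conj_pow, ← D.order, pow_orderOf_eq_one, mul_one, mul_inv_cancel]

/-- A Sylow subgroup containing `x` is not in the normaliser of `S`. -/
theorem false_of_normalizer (P : Sylow p G) (hxP : x ∈ P)
    (hPN : (P : Subgroup G) ≤ normalizer ((S : Subgroup G) : Set G)) : False := by
  classical
  have hp := (Fact.out : p.Prime)
  set N := normalizer ((S : Subgroup G) : Set G) with hN
  have hpel : ∀ y ∈ P, ∃ k, y ^ p ^ k = 1 := fun y hy => by
    obtain ⟨k, hk⟩ := P.2 ⟨y, hy⟩
    exact ⟨k, congrArg Subtype.val hk⟩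
  have hexp : ∀ y ∈ P, y ^ p = 1 := D.exp_of_cyclic hna hA P hxP
    (D.cyclic_centralizer (P.2.to_le (inf_le_left : (P : Subgroup G) ⊓ _ ≤ P)) inf_le_right)
    (show x ∈ (P : Subgroup G) ⊓ centralizer ((S : Subgroup G) : Set G) from ⟨hxP, D.mem⟩)
    fun y hy => by
      obtain ⟨k, hk⟩ := hpel y hy
      exact ⟨pow_mem hy p, pow_mem_centralizer D.eight D.five hk (hPN hy)⟩
  by_cases hPC : (P : Subgroup G) ≤ centralizer ((S : Subgroup G) : Set G)
  · exact D.false_of_line hna hA P hxP fun n hn =>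
      D.mem_of_centralizer hxP ((mem_normalizer_iff.1 hn x).1 hxP)
        (hPC ((mem_normalizer_iff.1 hn x).1 hxP))
        (by rw [conj_pow, hexp x hxP, mul_one, mul_inv_cancel])
  obtain ⟨w, hwP, hwC⟩ := Set.not_subset.1 hPC
  have h7 : p = 7 := by
    by_contra h
    obtain ⟨k, hk⟩ := hpel w hwP
    exact hwC (mem_centralizer_of_pElement D.eight D.five hk (hPN hwP) (Or.inl h))
  obtain ⟨a, ha, ha1⟩ := D.eight.exists_out (T := {1}) (by rw [Set.ncard_singleton]; norm_num)
  have ha1 : a ≠ 1 := ha1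
  -- the order
  set P' : Subgroup G := (P : Subgroup G) with hP'
  have hstab : ∀ y ∈ P', y * a = a * y → y ∈ zpowers x := fun y hy hya => by
    obtain ⟨k, hk⟩ := hpel y hy
    exact D.mem_of_centralizer hxP hy
      (mem_centralizer_of_pElement D.eight D.five hk (hPN hy) (Or.inr ⟨a, ha, ha1, hya⟩)) (hexp y hy)
  have hcard : Nat.card P' = p ^ 2 := by
    letI : MulAction P' (S : Subgroup G) :=
      MulAction.compHom _ ((normalizerMonoidHom (S : Subgroup G)).comp (inclusion hPN))
    set St := MulAction.stabilizer P' (⟨a, ha⟩ : (S : Subgroup G))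
    have hSt : Nat.card St ∣ p := by
      rw [← D.order, ← Nat.card_zpowers, ← card_map_of_injective P'.subtype_injective]
      refine card_dvd_of_le ?_
      rintro _ ⟨y, hy, rfl⟩
      refine hstab y y.2 ?_
      have h : (y : G) * a * (y : G)⁻¹ = a := congrArg Subtype.val (MulAction.mem_stabilizer_iff.1 hy)
      exact mul_inv_eq_iff_eq_mul.1 h
    have hidx : St.index ≤ 8 := by
      rw [MulAction.index_stabilizer, ← D.eight.card]
      exact (Set.ncard_le_ncard (Set.subset_univ _) (Set.toFinite _)).trans (le_of_eq (Set.ncard_univ _))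
    obtain ⟨n, hn⟩ := P.2.exists_card_eq
    rw [← hP'] at hn
    have hmul := St.card_mul_index
    have hle : Nat.card P' ≤ p * 8 := hmul ▸ Nat.mul_le_mul (Nat.le_of_dvd hp.pos hSt) hidx
    rw [hn] at hle ⊢
    have h2 : 2 ≤ n := by
      by_contra h
      refine hwC ?_
      have hx : zpowers x = P' := eq_of_le_of_card_ge (zpowers_le.2 hxP) (by
        rw [Nat.card_zpowers, D.order, hn]
        calc p ^ n ≤ p ^ 1 := Nat.pow_le_pow_right hp.pos (by omega)
          _ = p := pow_one p)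
      exact (zpowers_le.2 D.mem : zpowers x ≤ _) (hx.symm ▸ hwP)
    subst h7
    rcases Nat.eq_or_lt_of_le h2 with h | h
    · rw [h]
    · have := Nat.pow_le_pow_right (show 0 < 7 by norm_num) h
      omega
  subst h7
  -- the element
  have hxN : x ∈ N := D.mem_self
  obtain ⟨d, hd, hdx, hdo, hdP⟩ : ∃ d, d ∈ normalizer (P' : Set G) ∧ d * x = x * d ∧ Odd (orderOf d) ∧
      d ∉ centralizer (P' : Set G) := by
    by_contra hno
    push Not at hno
    set PN : Sylow 7 N := P.subtype hPN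
    have hPNc : (PN : Subgroup N) = P'.subgroupOf N := Sylow.coe_subtype _ _
    have hb : normalizer ((PN : Subgroup N) : Set N) ≤ centralizer ((PN : Subgroup N) : Set N) := by
      intro n hn
      have hnP : (n : G) ∈ normalizer (P' : Set G) := by
        rw [← LEBasic.map_conj_eq_iff_mem_normalizer]
        refine eq_of_le_of_card_ge ?_ (LEBasic.card_map_conj _ _).ge
        rintro _ ⟨z, hz, rfl⟩
        have h := (mem_normalizer_iff.1 hn ⟨z, hPN hz⟩).1 (by rw [hPNc]; exact mem_subgroupOf.2 hz)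
        rw [hPNc] at h
        exact mem_subgroupOf.1 h
      obtain ⟨u, v, huv, hu, hv, hut, hvo⟩ := ClosedAbelian.exists_parts (n : G)
      have huP := zpowers_le.2 hnP hu
      have huN := zpowers_le.2 n.2 hu
      have huS := twoEl_mem hut huN
      have hu' : u ∈ centralizer (P' : Set G) := mem_centralizer_iff.2 fun z hz => by
        have h1 : u * z * u⁻¹ * z⁻¹ ∈ P' := mul_mem ((mem_normalizer_iff.1 huP z).1 hz) (inv_mem hz)
        have h2 : u * z * u⁻¹ * z⁻¹ ∈ (S : Subgroup G) := by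
          rw [show u * z * u⁻¹ * z⁻¹ = u * (z * u⁻¹ * z⁻¹) by group]
          exact mul_mem huS ((mem_normalizer_iff.1 (hPN hz) _).1 (inv_mem huS))
        have h3 : u * z * u⁻¹ * z⁻¹ = 1 :=
          (ClosedAbelian.TwoEl.of_group S.2 h2).eq_one_of_odd
            (((by decide : Odd 7)).of_dvd_nat (orderOf_dvd_of_pow_eq_one (hexp _ h1)))
        exact (mul_inv_eq_iff_eq_mul.1 (mul_inv_eq_one.1 h3)).symm
      have hv' : v ∈ centralizer (P' : Set G) :=
        hno v (zpowers_le.2 hnP hv) (mem_centralizer_singleton_iff.1 (D.normalizer_le (zpowers_le.2 n.2 hv))) hvo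
      refine mem_centralizer_iff.2 fun z hz => Subtype.ext ?_
      have hz' : (z : G) ∈ P' := mem_subgroupOf.1 (hPNc ▸ hz)
      have := mem_centralizer_iff.1 (huv ▸ mul_mem hu' hv' : (n : G) ∈ centralizer (P' : Set G)) (z : G) hz'
      exact this
    obtain ⟨M, hMn, hM0, hMk⟩ : ∃ M : Subgroup N, M.Normal ∧ ¬ 7 ∣ Nat.card M ∧
        ∀ v, MonoidHom.transferSylow PN hb v = 1 → v ∈ M :=
      ⟨_, MonoidHom.normal_ker _, MonoidHom.not_dvd_card_ker_transferSylow PN hb, fun v h => MonoidHom.mem_ker.2 h⟩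
    obtain ⟨y, hy, hya, hyc⟩ := D.eight.moves a ha ha1
    obtain ⟨u, v, huv, hu, hv, ⟨k, hk⟩, hcop⟩ := PBasic.exists_pPart_mul (p := 7) (⟨y, hy⟩ : N)
    have hvC : (v : G) ∉ centralizer ((S : Subgroup G) : Set G) := by
      intro h
      refine hyc ?_
      have hy' : (u : G) * (v : G) = y := congrArg Subtype.val huv
      rw [← hy']
      refine mul_mem (mem_centralizer_of_pElement D.eight D.five (k := k)
        (by rw [← hk, ← Subgroup.orderOf_coe, pow_orderOf_eq_one]) u.2 (Or.inr ⟨a, ha, ha1, ?_⟩)) h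
      obtain ⟨i, hi⟩ := mem_zpowers_iff.1 hu
      rw [← hi, Subgroup.coe_zpow]
      exact ((show Commute y a from hya).zpow_left i).eq
    have hvM : v ∈ M := hMk v (by
      refine orderOf_eq_one_iff.1 (Nat.eq_one_of_dvd_coprimes hcop (orderOf_map_dvd _ v) ?_)
      exact orderOf_dvd_of_pow_eq_one (Subtype.ext (Subtype.ext
        (hexp _ (mem_subgroupOf.1 (hPNc ▸ (MonoidHom.transferSylow PN hb v).2))))))
    obtain ⟨-, h7⟩ := transitive_of_moves D.eight ha ha1 (M.map N.subtype)
      (fun n hn m hm => by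
        obtain ⟨m', hm', rfl⟩ := hm
        exact ⟨⟨n, hn⟩ * m' * ⟨n, hn⟩⁻¹, hMn.conj_mem _ hm' _, rfl⟩)
      (map_subtype_le _) ⟨v, hvM, rfl⟩ hvC
    refine hM0 ?_
    rw [← card_map_of_injective N.subtype_injective]
    exact h7.trans (relIndex_dvd_card _ _)
  exact D.false_of_line hna hA P hxP fun n hn => by
    rw [fix_of_elementary (by norm_num) hA P hcard hexp hxP D.ne_one
      (fun n _ h => D.normalizer_zpowers (by
        rw [← LEBasic.map_conj_eq_iff_mem_normalizer]
        refine eq_of_le_of_card_ge ?_ (LEBasic.card_map_conj _ _).ge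
        rw [MonoidHom.map_zpowers, zpowers_le]
        exact h)) hd hdx hdo hdP n hn, mul_inv_cancel_right]
    exact mem_zpowers x

/-- No element of prime order `p ≥ 5` centralises `S`. -/
theorem false_of_ctx (hW : Walter4.GoodStmt.{u})
    (hJ : ∀ (X : Type u) [Group X] [Finite X], Nat.card X < Nat.card G → IsSimpleGroup X →
      ¬ IsMulCommutative X → Walter4.RJType X → (∀ l, l.Prime → ∀ T : Sylow l X, IsMulCommutative T) →
      Cfsg.Spor.IsoJ1 X) : False := by
  classical
  haveI : Fact (Nat.Prime 2) := ⟨Nat.prime_two⟩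
  have hp := (Fact.out : p.Prime)
  have h5 := D.five
  have hp2 : p ≠ 2 := by omega
  set C := cen x with hC
  set N := normalizer ((S : Subgroup G) : Set G) with hN
  set π := QuotientGroup.mk' (Cfsg.oddCore ↥C) with hπ
  set T : Subgroup (Quo x) := (D.sylow : Subgroup (Quo x)) with hT
  set NT := normalizer (T : Set (Quo x)) with hNT
  -- a Sylow subgroup of the normaliser containing `x`
  obtain ⟨R, hR⟩ := (IsPGroup.of_card (p := p) (n := 1) (G := zpowers (⟨x, D.mem_self⟩ : N)) (by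
    rw [Nat.card_zpowers, Subgroup.orderOf_mk, D.order, pow_one])).exists_le_sylow
  set X := (R : Subgroup N).map N.subtype with hXdef
  have hxX : x ∈ X := ⟨_, hR (mem_zpowers _), rfl⟩
  have hXN : X ≤ N := map_subtype_le _
  obtain ⟨P, hXP⟩ := (R.2.map N.subtype).exists_le_sylow
  have hxP : x ∈ P := hXP hxX
  have hPC : (P : Subgroup G) ≤ C := fun y hy => mem_centralizer_singleton_iff.2
    (congrArg Subtype.val ((hA p hp P).is_comm.comm ⟨y, hy⟩ ⟨x, hxP⟩) :)
  have hCN : Nat.card C = NT.index * Nat.card N := by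
    rw [← (N.subgroupOf C).card_mul_index, D.index_eq, Nat.card_congr (subgroupOfEquivOfLe D.normalizer_le).toEquiv,
      mul_comm]
  obtain ⟨e₀, hPcard⟩ := P.2.exists_card_eq
  have hPdvd : Nat.card (P : Subgroup G) ∣ NT.index * Nat.card X := by
    have h1 : Nat.card (P : Subgroup G) ∣ NT.index * Nat.card N := hCN ▸ card_dvd_of_le hPC
    rw [← (R : Subgroup N).card_mul_index, ← mul_assoc] at h1
    rw [hXdef, card_map_of_injective N.subtype_injective]
    refine Nat.Coprime.dvd_of_dvd_mul_right ?_ h1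
    rw [hPcard]
    exact ((hp.coprime_iff_not_dvd).2 R.not_dvd_index).pow_left e₀
  by_cases hidx : p ∣ NT.index
  swap
  · have hPX : Nat.card (P : Subgroup G) ∣ Nat.card X := by
      refine Nat.Coprime.dvd_of_dvd_mul_left ?_ hPdvd
      rw [hPcard]
      exact ((hp.coprime_iff_not_dvd).2 hidx).pow_left e₀
    have e : X = (P : Subgroup G) := eq_of_le_of_card_ge hXP (Nat.le_of_dvd Nat.card_pos hPX)
    exact D.false_of_normalizer hna hA P hxP (e ▸ hXN)
  rcases D.cases hna hW hA hJ with htop | ⟨K, hKn, hKs, hKnc, hTK, hKN, hK⟩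
  · rw [hNT, hT, htop, index_top] at hidx
    exact hp.ne_one (Nat.eq_one_of_dvd_one hidx)
  haveI := hKn
  haveI := hKs
  -- the index divides the order of `K` divided by 56
  have hmulK : NT.index * Nat.card (NT ⊓ K : Subgroup (Quo x)) = Nat.card K := by
    have h1 := K.card_mul_index
    have h2 := NT.card_mul_index
    have h3 := (K.subgroupOf NT).card_mul_index
    have h4 : K.index = (K.subgroupOf NT).index := by
      rw [← relIndex_top_right, ← hKN, sup_comm, relIndex_sup_right]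
      rfl
    rw [← h4, show Nat.card (K.subgroupOf NT) = Nat.card (NT ⊓ K : Subgroup (Quo x)) by
      rw [← card_map_of_injective NT.subtype_injective, subgroupOf_map_subtype, inf_comm]] at h3
    refine mul_right_cancel₀ (index_ne_zero_of_finite (H := K)) ?_
    calc NT.index * Nat.card (NT ⊓ K : Subgroup (Quo x)) * K.index
        = NT.index * (Nat.card (NT ⊓ K : Subgroup (Quo x)) * K.index) := mul_assoc _ _ _
      _ = Nat.card K * K.index := by rw [h3, mul_comm, h2, h1]
  have h8 : 8 ∣ Nat.card (NT ⊓ K : Subgroup (Quo x)) :=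
    D.card_sylow ▸ card_dvd_of_le (le_inf le_normalizer hTK)
  have h7 : 7 ∣ Nat.card (NT ⊓ K : Subgroup (Quo x)) := by
    have hTsyl : ∀ k : K, (k : Quo x) ∈ T ↔ k ∈ T.subgroupOf K := fun k => mem_subgroupOf.symm
    have hnc := not_normalizer_le_centralizer hKnc (D.sylow.subtype hTK)
      ((show 2 ∣ 8 by norm_num).trans (D.card_sylow ▸ card_dvd_of_le hTK))
    obtain ⟨k, hk, hkc⟩ := Set.not_subset.1 hnc
    obtain ⟨g, hg⟩ := mk_surjective x (k : Quo x)
    have hkN : (k : Quo x) ∈ NT := by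
      rw [hNT, ← LEBasic.map_conj_eq_iff_mem_normalizer]
      refine eq_of_le_of_card_ge ?_ (LEBasic.card_map_conj _ _).ge
      rintro _ ⟨z, hz, rfl⟩
      have h := (mem_normalizer_iff.1 hk ⟨z, hTK hz⟩).1 (by rw [Sylow.coe_subtype]; exact mem_subgroupOf.2 hz)
      rw [Sylow.coe_subtype] at h
      exact mem_subgroupOf.1 h
    set Kh : Subgroup C := (NT ⊓ K).comap π with hKh
    set M : Subgroup G := Kh.map C.subtype with hM
    have hMN : M ≤ N := by
      rintro _ ⟨c, hc, rfl⟩
      exact mem_subgroupOf.1 (D.normalizer_comap.le (show c ∈ NT.comap π from (mem_comap.1 hc).1))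
    have hgM : (g : G) ∈ M := ⟨g, mem_comap.2 (by rw [hg]; exact ⟨hkN, k.2⟩), rfl⟩
    obtain ⟨a, ha, ha1⟩ := D.eight.exists_out (T := {1}) (by rw [Set.ncard_singleton]; norm_num)
    have ha1 : a ≠ 1 := ha1
    have hgC : (g : G) ∉ centralizer ((S : Subgroup G) : Set G) := by
      intro h
      refine hkc (mem_centralizer_iff.2 fun z hz => Subtype.ext ?_)
      rw [Sylow.coe_subtype] at hz
      obtain ⟨s, hs, e⟩ := D.mem_sylow.1 (mem_subgroupOf.1 hz)
      show (z : Quo x) * k = k * z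
      rw [← e, ← hg, QuotientGroup.mk'_apply, ← QuotientGroup.mk_mul, ← QuotientGroup.mk_mul]
      exact congrArg QuotientGroup.mk (Subtype.ext (mem_centralizer_iff.1 h s hs))
    obtain ⟨-, h7⟩ := transitive_of_moves D.eight ha ha1 M (fun n hn m hm => by
      obtain ⟨c, hc, rfl⟩ := hm
      refine ⟨⟨n, D.normalizer_le hn⟩ * c * ⟨n, D.normalizer_le hn⟩⁻¹, mem_comap.2 ?_, rfl⟩
      have hnT : π ⟨n, D.normalizer_le hn⟩ ∈ NT := D.normalizer_comap.ge (mem_subgroupOf.2 hn)
      rw [map_mul, map_mul, map_inv]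
      exact ⟨NT.mul_mem (NT.mul_mem hnT (mem_comap.1 hc).1) (NT.inv_mem hnT), hKn.conj_mem _ (mem_comap.1 hc).2 _⟩)
      hMN hgM hgC
    refine h7.trans ?_
    -- the centraliser contains the kernel
    let f : Kh →* (NT ⊓ K : Subgroup (Quo x)) := (π.comp Kh.subtype).codRestrict _ fun c => c.2
    have hf : Function.Surjective f := fun z => by
      obtain ⟨c, hc⟩ := mk_surjective x (z : Quo x)
      exact ⟨⟨c, mem_comap.2 (by rw [hc]; exact z.2)⟩, Subtype.ext hc⟩
    set CK : Subgroup Kh := (centralizer ((S : Subgroup G) : Set G)).comap (C.subtype.comp Kh.subtype)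
    have hker : f.ker ≤ CK := fun c hc => (D.comm_core ((QuotientGroup.eq_one_iff _).1
      (congrArg Subtype.val (MonoidHom.mem_ker.1 hc) :))).1
    have hidx' : (centralizer ((S : Subgroup G) : Set G)).relIndex M = CK.index := by
      let w : Kh ≃* M := Kh.equivMapOfInjective C.subtype C.subtype_injective
      rw [show (centralizer ((S : Subgroup G) : Set G)).relIndex M =
        ((centralizer ((S : Subgroup G) : Set G)).subgroupOf M).index from rfl,
        ← index_comap_of_surjective ((centralizer ((S : Subgroup G) : Set G)).subgroupOf M) (f := w.toMonoidHom) w.surjective]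
      rfl
    rw [hidx', ← index_map_eq CK hf hker]
    exact index_dvd_card _
  have h56 : NT.index * 56 ∣ Nat.card K :=
    hmulK ▸ Nat.mul_dvd_mul (dvd_refl _) (Nat.Coprime.mul_dvd_of_dvd_of_dvd (by norm_num) h8 h7)
  rcases hK with h504 | hJK
  · rw [h504] at h56
    have h : p ∣ 9 := hidx.trans ((Nat.mul_dvd_mul_iff_right (by norm_num : 0 < 56)).1 h56)
    have := (Nat.prime_dvd_prime_iff_eq hp Nat.prime_three).1 (hp.dvd_of_dvd_pow (show p ∣ 3 ^ 2 from h))
    omega
  obtain ⟨eJ⟩ := hJK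
  have hcardK : Nat.card K = 175560 := by rw [Nat.card_congr eJ.toEquiv, J1.card_J1]
  rw [hcardK] at h56
  have hdvd : NT.index ∣ 3135 := (Nat.mul_dvd_mul_iff_right (by norm_num : 0 < 56)).1 h56
  have hpj : p = 5 ∨ p = 11 ∨ p = 19 := by
    have h : p ∣ 3 * (5 * (11 * 19)) := hidx.trans hdvd
    rcases hp.dvd_mul.1 h with h | h
    · have := Nat.le_of_dvd (by norm_num) h; omega
    rcases hp.dvd_mul.1 h with h | h
    · exact Or.inl ((Nat.prime_dvd_prime_iff_eq hp (by norm_num)).1 h)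
    rcases hp.dvd_mul.1 h with h | h
    · exact Or.inr (Or.inl ((Nat.prime_dvd_prime_iff_eq hp (by norm_num)).1 h))
    · exact Or.inr (Or.inr ((Nat.prime_dvd_prime_iff_eq hp (by norm_num)).1 h))
  -- the Sylow subgroup
  have hPpX : Nat.card (P : Subgroup G) ∣ p * Nat.card X := by
    obtain ⟨j, hj⟩ := hidx
    have hcop : ¬ p ∣ j := fun h => by
      have h2 : p * p ∣ 3135 := (hj ▸ Nat.mul_dvd_mul_left p h).trans hdvd
      rcases hpj with rfl | rfl | rfl <;> norm_num at h2
    rw [hj, mul_comm p j, mul_assoc] at hPdvd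
    refine Nat.Coprime.dvd_of_dvd_mul_left ?_ hPdvd
    rw [hPcard]
    exact ((hp.coprime_iff_not_dvd).2 hcop).pow_left e₀
  have hrel : X.relIndex (P : Subgroup G) ∣ p := by
    refine (Nat.mul_dvd_mul_iff_left (Nat.card_pos (α := X))).1 ?_
    rw [mul_comm _ p]
    refine (dvd_of_eq ?_).trans hPpX
    rw [← (X.subgroupOf (P : Subgroup G)).card_mul_index, Nat.card_congr (subgroupOfEquivOfLe hXP).toEquiv]
    rfl
  have hp7 : p ≠ 7 := by omega
  have hXS : X ≤ centralizer ((S : Subgroup G) : Set G) := fun z hz => by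
    obtain ⟨k, hk⟩ := (R.2.map N.subtype) ⟨z, hz⟩
    exact mem_centralizer_of_pElement D.eight D.five (congrArg Subtype.val hk : z ^ p ^ k = 1) (hXN hz) (Or.inl hp7)
  have hexp : ∀ y ∈ P, y ^ p = 1 := D.exp_of_cyclic hna hA P hxP
    (D.cyclic_centralizer (R.2.map N.subtype) hXS) hxX fun y hy =>
      pow_mem_of_relIndex (hA p hp P) hrel hy
  have hXx : X ≤ zpowers x := fun z hz => D.mem_of_centralizer hxP (hXP hz) (hXS hz) (hexp z (hXP hz))
  have hcard : Nat.card (P : Subgroup G) = p ^ 2 := by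
    have hX1 : Nat.card X ∣ p := by rw [← D.order, ← Nat.card_zpowers]; exact card_dvd_of_le hXx
    have h : p ^ e₀ ∣ p ^ 2 := by
      rw [← hPcard, pow_two]; exact hPpX.trans (Nat.mul_dvd_mul_left p hX1)
    have h2 : e₀ ≤ 2 := (Nat.pow_dvd_pow_iff_le_right hp.one_lt).1 h
    rw [hPcard]
    rcases Nat.eq_or_lt_of_le h2 with e | e
    · rw [e]
    exfalso
    have hx : zpowers x = (P : Subgroup G) := eq_of_le_of_card_ge (zpowers_le.2 hxP) (by
      rw [Nat.card_zpowers, D.order, hPcard]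
      calc p ^ e₀ ≤ p ^ 1 := Nat.pow_le_pow_right hp.pos (by omega)
        _ = p := pow_one p)
    exact D.false_of_line hna hA P hxP fun n hn => hx.symm ▸ (mem_normalizer_iff.1 hn x).1 hxP
  -- the image of the Sylow subgroup
  set Pb : Sylow p (Quo x) := (P.subtype hPC).mapSurjective (mk_surjective x) with hPb
  have hPbmem : ∀ z, z ∈ (Pb : Subgroup (Quo x)) ↔ ∃ c : C, (c : G) ∈ P ∧ π c = z := fun z => by
    rw [hPb, Sylow.coe_mapSurjective, Sylow.coe_subtype, Subgroup.mem_map]
    exact ⟨fun ⟨c, hc, e⟩ => ⟨c, mem_subgroupOf.1 hc, e⟩, fun ⟨c, hc, e⟩ => ⟨c, mem_subgroupOf.2 hc, e⟩⟩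
  have hker1 : ∀ c : C, (c : G) ^ p = 1 → (∃ Q : Sylow p G, x ∈ Q ∧ (c : G) ∈ Q) → π c = 1 →
      (c : G) ∈ zpowers x := fun c hc ⟨Q, hxQ, hcQ⟩ h1 =>
    D.mem_of_centralizer hxQ hcQ (D.comm_core ((QuotientGroup.eq_one_iff c).1 h1)).1 hc
  have hx1 : π ⟨x, hPC hxP⟩ = 1 := (QuotientGroup.eq_one_iff _).2 (by
    have hle : zpowers (⟨x, hPC hxP⟩ : C) ≤ Cfsg.oddCore ↥C := PBasic.le_pPrimeCore
      ⟨fun c hc g => by
        obtain ⟨i, rfl⟩ := mem_zpowers_iff.1 hc
        refine mem_zpowers_iff.2 ⟨i, Subtype.ext ?_⟩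
        show x ^ i = (g : G) * x ^ i * (g : G)⁻¹
        rw [((show Commute (g : G) x from mem_centralizer_singleton_iff.1 g.2).zpow_right i).eq,
          mul_inv_cancel_right]⟩
      (by rw [Nat.card_zpowers, Subgroup.orderOf_mk, D.order]; exact (Nat.coprime_primes hp Nat.prime_two).2 hp2)
    exact hle (mem_zpowers _))
  have hzX : ∀ c : C, (c : G) ∈ zpowers x → π c = 1 := fun c hc => by
    obtain ⟨i, hi⟩ := mem_zpowers_iff.1 hc
    rw [show c = (⟨x, hPC hxP⟩ : C) ^ i from Subtype.ext hi.symm, map_zpow, hx1, one_zpow]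
  obtain ⟨y₀, hy₀P, hy₀x⟩ : ∃ y ∈ P, y ∉ zpowers x := by
    by_contra h
    push Not at h
    have := card_dvd_of_le (show (P : Subgroup G) ≤ zpowers x from h)
    rw [hcard, Nat.card_zpowers, D.order] at this
    have := Nat.le_of_dvd hp.pos this
    nlinarith [hp.two_le]
  -- every element of order `p` of the quotient generates the image up to conjugation
  have hgen : ∀ z : Quo x, orderOf z = p → ∃ h : Quo x, ∀ q ∈ (Pb : Subgroup (Quo x)),
      q ∈ zpowers (h * z * h⁻¹) := by
    intro z hz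
    obtain ⟨Q, hQ⟩ := (IsPGroup.of_card (p := p) (n := 1) (G := zpowers z)
      (by rw [Nat.card_zpowers, hz, pow_one])).exists_le_sylow
    obtain ⟨h, hh⟩ := MulAction.exists_smul_eq (Quo x) Q Pb
    refine ⟨h, fun q hq => ?_⟩
    have hcardb : Nat.card (Pb : Subgroup (Quo x)) ∣ p := by
      let f : (P : Subgroup G) →* (Pb : Subgroup (Quo x)) :=
        (π.comp (inclusion hPC)).codRestrict _ fun c => (hPbmem _).2 ⟨_, c.2, rfl⟩
      have hf : Function.Surjective f := fun q => by
        obtain ⟨c, hc, e⟩ := (hPbmem _).1 q.2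
        exact ⟨⟨c, hc⟩, Subtype.ext e⟩
      have h1 := f.ker.card_eq_card_quotient_mul_card_subgroup
      rw [Nat.card_congr (QuotientGroup.quotientKerEquivOfSurjective f hf).toEquiv, hcard, pow_two] at h1
      have hk : p ∣ Nat.card f.ker := ?_
      · obtain ⟨m, hm⟩ := hk
        rw [hm] at h1
        exact ⟨m, mul_right_cancel₀ hp.ne_zero (by rw [h1]; ring)⟩
      refine (dvd_of_eq (show p = Nat.card (zpowers (⟨x, hxP⟩ : (P : Subgroup G))) by
        rw [Nat.card_zpowers, Subgroup.orderOf_mk, D.order])).trans (card_dvd_of_le ?_)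
      rw [zpowers_le, MonoidHom.mem_ker]
      exact Subtype.ext hx1
    have hmem : h * z * h⁻¹ ∈ (Pb : Subgroup (Quo x)) := by
      rw [← hh, Sylow.coe_subgroup_smul]
      exact ⟨z, hQ (mem_zpowers z), rfl⟩
    have hle : zpowers (h * z * h⁻¹) ≤ (Pb : Subgroup (Quo x)) := zpowers_le.2 hmem
    rw [eq_of_le_of_card_ge hle (by
      rw [Nat.card_zpowers, ← MulAut.conj_apply, MulEquiv.orderOf_eq, hz]
      exact Nat.le_of_dvd hp.pos hcardb)]
    exact hq
  rcases hpj with rfl | hp1119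
  · -- an element of order 5 centralising an involution
    obtain ⟨t₀, ht₀, ⟨eC⟩⟩ := S2131.result
    obtain ⟨z₀, hz₀⟩ := exists_prime_orderOf_dvd_card' (G := centralizer ({t₀} : Set Cfsg.Spor.J1)) 5 (by
      rw [Nat.card_congr eC.toEquiv, Nat.card_prod, nat_card_alternatingGroup]
      simp [Nat.factorial])
    set t : Quo x := ((eJ.symm t₀ : K) : Quo x) with ht
    set z : Quo x := ((eJ.symm (z₀ : Cfsg.Spor.J1) : K) : Quo x) with hz
    have ht2 : orderOf t = 2 := by rw [ht, Subgroup.orderOf_coe, MulEquiv.orderOf_eq, ht₀]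
    have hz5 : orderOf z = 5 := by rw [hz, Subgroup.orderOf_coe, MulEquiv.orderOf_eq, Subgroup.orderOf_coe, hz₀]
    have hzt : z * t = t * z := by
      rw [hz, ht, ← Subgroup.coe_mul, ← Subgroup.coe_mul, ← map_mul, ← map_mul,
        mem_centralizer_singleton_iff.1 z₀.2]
    obtain ⟨Q, hQ⟩ := (IsPGroup.of_card (p := 2) (n := 1) (G := zpowers t)
      (by rw [Nat.card_zpowers, ht2, pow_one])).exists_le_sylow
    obtain ⟨h, hh⟩ := MulAction.exists_smul_eq (Quo x) Q D.sylow
    have htT : h * t * h⁻¹ ∈ (D.sylow : Subgroup (Quo x)) := by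
      rw [← hh, Sylow.coe_subgroup_smul]
      exact ⟨t, hQ (mem_zpowers t), rfl⟩
    obtain ⟨s, hs, hst⟩ := D.mem_sylow.1 htT
    have hs1 : s ≠ 1 := fun e => by
      subst e
      have h1 : h * t * h⁻¹ = 1 := hst.symm
      rw [conj_eq_one_iff.1 h1, orderOf_one] at ht2
      norm_num at ht2
    set z' := h * z * h⁻¹ with hz'
    have hz'5 : orderOf z' = 5 := by rw [hz', ← MulAut.conj_apply, MulEquiv.orderOf_eq, hz5]
    obtain ⟨g, hg⟩ := mk_surjective x z'
    obtain ⟨u, -, hu, k, hk⟩ := exists_pPart_map π (show orderOf (π g) = 5 by rw [hg]; exact hz'5)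
    have hus : (u : G) * s = s * (u : G) := D.lift_comm hs (by
      show π u * QuotientGroup.mk _ = QuotientGroup.mk _ * π u
      rw [hu, hg, hst, hz']
      calc h * z * h⁻¹ * (h * t * h⁻¹) = h * (z * t) * h⁻¹ := by group
        _ = h * t * h⁻¹ * (h * z * h⁻¹) := by rw [hzt]; group)
    have hxu : Commute x (u : G) := (mem_centralizer_singleton_iff.1 u.2).symm
    set Y := zpowers x ⊔ zpowers (u : G) with hY
    have hYp : IsPGroup 5 Y := IsPGroup.to_sup_of_normal_right'
      (IsPGroup.of_card (n := 1) (by rw [Nat.card_zpowers, D.order, pow_one]))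
      (IsPGroup.of_card (n := k) (by rw [Nat.card_zpowers, Subgroup.orderOf_coe, hk]))
      (zpowers_le.2 (centralizer_le_normalizer _ (mem_centralizer_iff.2 fun w hw => by
        obtain ⟨i, rfl⟩ := mem_zpowers_iff.1 hw
        exact (hxu.zpow_right i).eq.symm)))
    have hxs : x * s = s * x := (mem_centralizer_iff.1 D.mem s hs).symm
    have hYc : IsCyclic Y := D.cyclic s hs hs1 Y hYp (sup_le (zpowers_le.2 (mem_centralizer_singleton_iff.2 hxs))
      (zpowers_le.2 (mem_centralizer_singleton_iff.2 hus)))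
    obtain ⟨Q', hQ'⟩ := hYp.exists_le_sylow
    obtain ⟨c, hc⟩ := MulAction.exists_smul_eq G Q' P
    have hu5 : (u : G) ^ 5 = 1 := by
      have h1 : c * (u : G) * c⁻¹ ∈ P := by
        show c * (u : G) * c⁻¹ ∈ (P : Subgroup G)
        rw [← hc, Sylow.coe_subgroup_smul]
        exact ⟨_, hQ' (mem_sup_right (mem_zpowers _)), rfl⟩
      have h2 := hexp _ h1
      rw [conj_pow] at h2
      exact conj_eq_one_iff.1 h2
    have h3 := hzX u (mem_zpowers_of_cyclic hp hYc (mem_sup_left (mem_zpowers x)) D.order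
      (mem_sup_right (mem_zpowers _)) hu5)
    rw [hu, hg] at h3
    rw [h3, orderOf_one] at hz'5
    norm_num at hz'5
  -- a non-central element of odd order normalising the image
  obtain ⟨y, w, hy, hwo, hwy, hwc⟩ : ∃ y w : Cfsg.Spor.J1, orderOf y = p ∧ Odd (orderOf w) ∧
      w * y * w⁻¹ ∈ zpowers y ∧ w * y ≠ y * w := by
    rcases hp1119 with rfl | rfl
    · exact j1_eleven
    · exact j1_nineteen
  let ι : Cfsg.Spor.J1 →* Quo x := K.subtype.comp eJ.symm.toMonoidHom
  have hι : Function.Injective ι := K.subtype_injective.comp eJ.symm.injective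
  obtain ⟨h, hh⟩ := hgen (ι y) (by rw [orderOf_injective ι hι, hy])
  set y' := h * ι y * h⁻¹ with hy'
  set w' := h * ι w * h⁻¹ with hw'
  have hw'o : Odd (orderOf w') := by
    rw [hw', ← MulAut.conj_apply, MulEquiv.orderOf_eq, orderOf_injective ι hι]; exact hwo
  obtain ⟨i, hi⟩ := mem_zpowers_iff.1 hwy
  have hw'y : w' * y' * w'⁻¹ = y' ^ i := by
    rw [hw', hy', conj_zpow, ← map_zpow, hi, map_mul, map_mul, map_inv]; group
  have hy'o : orderOf y' = p := by
    rw [hy', ← MulAut.conj_apply, MulEquiv.orderOf_eq, orderOf_injective ι hι, hy]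
  have hy'P : y' ∈ (Pb : Subgroup (Quo x)) := by
    have hPb1 : zpowers y' = (Pb : Subgroup (Quo x)) ∨ (Pb : Subgroup (Quo x)) = ⊥ := by
      have hd := card_dvd_of_le (show (Pb : Subgroup (Quo x)) ≤ zpowers y' from hh)
      rw [Nat.card_zpowers, hy'o] at hd
      rcases (Nat.dvd_prime hp).1 hd with e | e
      · exact Or.inr (Subgroup.card_eq_one.1 e)
      · exact Or.inl (eq_of_le_of_card_ge hh (by rw [Nat.card_zpowers, hy'o, e])).symm
    rcases hPb1 with e | e
    · exact e ▸ mem_zpowers y'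
    · exfalso
      refine hy₀x (hker1 ⟨y₀, hPC hy₀P⟩ (hexp y₀ hy₀P) ⟨P, hxP, hy₀P⟩ ?_)
      have := (hPbmem (π ⟨y₀, hPC hy₀P⟩)).2 ⟨_, hy₀P, rfl⟩
      rwa [e, mem_bot] at this
  have hPbz : (Pb : Subgroup (Quo x)) = zpowers y' := le_antisymm hh (zpowers_le.2 hy'P)
  -- lift it to the normaliser of the Sylow subgroup
  obtain ⟨g, hg⟩ := mk_surjective x w'
  set Rb : Subgroup C := (Pb : Subgroup (Quo x)).comap π with hRb
  have hPR : (P : Subgroup G).subgroupOf C ≤ Rb := fun c hc =>
    mem_comap.2 ((hPbmem _).2 ⟨c, mem_subgroupOf.1 hc, rfl⟩)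
  set PC : Subgroup C := (P : Subgroup G).subgroupOf C with hPCd
  have hgP : PC.map (MulAut.conj g).toMonoidHom ≤ Rb := by
    rintro _ ⟨c, hc, rfl⟩
    refine mem_comap.2 ?_
    show π (g * c * g⁻¹) ∈ (Pb : Subgroup (Quo x))
    obtain ⟨j, hj⟩ := mem_zpowers_iff.1 (hPbz.le (mem_comap.1 (hPR hc)))
    rw [map_mul, map_mul, map_inv, hg, ← hj, ← conj_zpow, hw'y, hPbz]
    exact zpow_mem (zpow_mem (mem_zpowers _) i) j
  obtain ⟨m, hm, hmle⟩ := LESylow.exists_conj_le_of_le hgP
    ((((P.subtype hPC)).2.to_le (Sylow.coe_subtype P hPC).ge).map _) (((P.subtype hPC)).subtype (by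
      rw [Sylow.coe_subtype]; exact hPR))
  rw [Sylow.coe_subtype, Sylow.coe_subtype, subgroupOf_map_subtype, inf_eq_left.2 hPR] at hmle
  set n := m * g with hn
  have hnP : (n : G) ∈ normalizer ((P : Subgroup G) : Set G) := by
    rw [← LEBasic.map_conj_eq_iff_mem_normalizer]
    refine eq_of_le_of_card_ge ?_ (LEBasic.card_map_conj _ _).ge
    rintro _ ⟨c, hc, rfl⟩
    have h := hmle ⟨_, ⟨⟨c, hPC hc⟩, mem_subgroupOf.2 hc, rfl⟩, rfl⟩
    have h' := mem_subgroupOf.1 h
    show (n : G) * c * (n : G)⁻¹ ∈ (P : Subgroup G)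
    have e : (n : G) * c * (n : G)⁻¹ = (m : G) * ((g : G) * c * (g : G)⁻¹) * (m : G)⁻¹ := by
      rw [hn, Subgroup.coe_mul]; group
    rw [e]
    exact h'
  obtain ⟨j, hj⟩ := mem_zpowers_iff.1 (hPbz.le (mem_comap.1 hm))
  have hπn : π n = y' ^ j * w' := by rw [hn, map_mul, hg, hj]
  have hπnodd : Odd (orderOf (π n)) := by
    have hcl : ∀ l : ℕ, ∃ q ∈ zpowers y', (π n) ^ l = q * w' ^ l := by
      intro l
      induction l with
      | zero => exact ⟨1, one_mem _, by simp⟩
      | succ l ih =>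
        obtain ⟨q, hq, e⟩ := ih
        refine ⟨y' ^ j * (w' * q * w'⁻¹), mul_mem (zpow_mem (mem_zpowers _) j) ?_, ?_⟩
        · obtain ⟨r, rfl⟩ := mem_zpowers_iff.1 hq
          rw [← conj_zpow, hw'y]
          exact zpow_mem (zpow_mem (mem_zpowers _) i) r
        · rw [pow_succ', e, hπn, pow_succ']; group
    obtain ⟨q, hq, e⟩ := hcl (orderOf w')
    rw [pow_orderOf_eq_one, mul_one] at e
    have hodd : Odd (orderOf w' * p) := hw'o.mul (hp.odd_of_ne_two hp2)
    refine hodd.of_dvd_nat (orderOf_dvd_of_pow_eq_one ?_)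
    rw [pow_mul, e]
    obtain ⟨r, rfl⟩ := mem_zpowers_iff.1 hq
    rw [← zpow_natCast, ← zpow_mul, mul_comm, zpow_mul, zpow_natCast, ← hy'o, pow_orderOf_eq_one, one_zpow]
  obtain ⟨u, v, huv, hu, hv, hut, hvo⟩ := ClosedAbelian.exists_parts n
  have hπu : π u = 1 := by
    obtain ⟨e, he⟩ := hut
    refine ClosedAbelian.TwoEl.eq_one_of_odd ⟨e, by rw [← map_pow, he, map_one]⟩ ?_
    obtain ⟨r, rfl⟩ := mem_zpowers_iff.1 hu
    rw [map_zpow]
    exact hπnodd.of_dvd_nat (orderOf_dvd_of_mem_zpowers (zpow_mem (mem_zpowers _) r))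
  have hπv : π v = π n := by rw [← huv, map_mul, hπu, one_mul]
  have hd : (v : G) ∈ normalizer ((P : Subgroup G) : Set G) := by
    obtain ⟨r, rfl⟩ := mem_zpowers_iff.1 hv
    rw [Subgroup.coe_zpow]
    exact zpow_mem hnP r
  obtain ⟨c, hcP, hc⟩ := (hPbmem y').1 hy'P
  have hdP : (v : G) ∉ centralizer ((P : Subgroup G) : Set G) := by
    intro h1
    have h2 : π v * y' = y' * π v := by
      rw [← hc, ← map_mul, ← map_mul]
      exact congrArg π (Subtype.ext (mem_centralizer_iff.1 h1 c hcP).symm)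
    rw [hπv, hπn] at h2
    have h5' : w' * y' = y' * w' := by
      refine mul_left_cancel (a := y' ^ j) ?_
      rw [← mul_assoc, h2]
      exact (Commute.left_comm ((Commute.refl y').zpow_right j) w')
    have h3 : h * ι (w * y) * h⁻¹ = h * ι (y * w) * h⁻¹ := by
      have h4 := h5'
      rw [hw', hy'] at h4
      rw [map_mul, map_mul]
      calc h * (ι w * ι y) * h⁻¹ = h * ι w * h⁻¹ * (h * ι y * h⁻¹) := by group
        _ = h * ι y * h⁻¹ * (h * ι w * h⁻¹) := h4
        _ = h * (ι y * ι w) * h⁻¹ := by group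
    exact hwc (hι (mul_left_cancel (mul_right_cancel h3)))
  refine D.false_of_line hna hA P hxP fun n' hn' => ?_
  rw [fix_of_elementary hp2 hA P hcard hexp hxP D.ne_one
    (fun n' _ h => D.normalizer_zpowers (by
      rw [← LEBasic.map_conj_eq_iff_mem_normalizer]
      refine eq_of_le_of_card_ge ?_ (LEBasic.card_map_conj _ _).ge
      rw [MonoidHom.map_zpowers, zpowers_le]
      exact h)) hd (mem_centralizer_singleton_iff.1 v.2) (by rwa [Subgroup.orderOf_coe]) hdP n' hn',
    mul_inv_cancel_right]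
  exact mem_zpowers x

end Ctx

end Cfsg.Agent.AllAbelian
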