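import Cfsg.Agent.Lib.AllAbelian.Act
import Cfsg.Agent.Lib.AllAbelian.FieldSylow
import Cfsg.Agent.Lib.MaxCent.Basic
import Cfsg.Agent.Lib.Walter4.Ind
import Cfsg.Agent.Lib.Walter8.LType
import Cfsg.Agent.Lib.Solvable.Coprime
import Cfsg.Agent.Lib.Classical.DicksonProper
import Cfsg.Agent.Lib.Transfer.Basic

/-!
The centraliser of an involution in a group of Ree–Janko type: its field part, and what a non-trivial one
gives when all Sylow subgroups are abelian.
-/

set_option autoImplicit false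
set_option linter.unusedSectionVars false
set_option linter.style.haveILetI false

namespace Cfsg.Agent.AllAbelian

open Subgroup Cfsg.Agent.GW
open Cfsg.Agent.Walter8 (Eight LType cen)

universe u

/-- A part of prime power order with the same image, the image having that prime order. -/
theorem exists_pPart_map {X Y : Type*} [Group X] [Finite X] [Group Y] {p : ℕ} [Fact p.Prime]
    (f : X →* Y) {n : X} (hn : orderOf (f n) = p) :
    ∃ u ∈ zpowers n, f u = f n ∧ ∃ k, orderOf u = p ^ k := by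
  obtain ⟨u, v, huv, hu, hv, hk, hcop⟩ := PBasic.exists_pPart_mul (p := p) n
  refine ⟨u, hu, ?_, hk⟩
  obtain ⟨i, rfl⟩ := mem_zpowers_iff.1 hv
  have h1 : f (n ^ i) = 1 := by
    refine orderOf_eq_one_iff.1 (Nat.eq_one_of_dvd_coprimes hcop (orderOf_map_dvd f _) ?_)
    rw [map_zpow]
    exact (orderOf_dvd_of_mem_zpowers (zpow_mem (mem_zpowers _) i)).trans (dvd_of_eq hn)
  conv_rhs => rw [← huv, map_mul, h1, mul_one]

variable {G : Type u} [Group G] [Finite G] {S : Sylow 2 G}

/-- The data of `LType` at one involution, the odd core being trivial. -/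
structure Loc (S : Sylow 2 G) (a : G) (F : Type) [Field F] [Fintype F] (L : Subgroup G) : Prop where
  mem : a ∈ (S : Subgroup G)
  ne : a ≠ 1
  iso : Nonempty (L ≃* Matrix.ProjectiveSpecialLinearGroup (Fin 2) F)
  odd : Odd (Fintype.card F)
  three : 3 < Fintype.card F
  le : L ≤ cen a
  norm : cen a ≤ normalizer (L : Set G)
  cent : ∀ g ∈ cen a, (∀ l ∈ L, g * l = l * g) → g ∈ zpowers a

theorem exists_loc (hL : LType (S : Subgroup G))
    (hcore : ∀ a ∈ (S : Subgroup G), a ≠ 1 → ClosedAbelian.core (cen a) = ⊥)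
    {a : G} (ha : a ∈ (S : Subgroup G)) (ha1 : a ≠ 1) :
    ∃ (F : Type) (_ : Field F) (_ : Fintype F) (L : Subgroup G), Loc S a F L := by
  obtain ⟨L, F, i1, i2, φ, hodd, h3, hLC, hCN, hsur, -, hker, hcen⟩ := hL a ha ha1
  rw [hcore a ha ha1] at hker hcen
  rw [bot_sup_eq] at hcen
  have hinj : Function.Injective φ := by
    rw [← MonoidHom.ker_eq_bot_iff, hker, bot_subgroupOf]
  refine ⟨F, i1, i2, L, ha, ha1, ⟨MulEquiv.ofBijective φ ⟨hinj, hsur⟩⟩, hodd, h3, hLC, hCN,
    fun g hg h => hcen g hg fun l hl => ?_⟩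
  rw [mem_bot, h l hl, mul_inv_cancel_right, mul_inv_cancel]

namespace Loc

variable {a : G} {F : Type} [Field F] [Fintype F] {L : Subgroup G}

local notation "PSL2" => Matrix.ProjectiveSpecialLinearGroup (Fin 2) F

variable (hE : Eight (S : Subgroup G)) (D : Loc S a F L)

/-- The chosen isomorphism. -/
noncomputable def e (D : Loc S a F L) : L ≃* PSL2 := D.iso.some

/-- The action on `L`. -/
noncomputable def iota (D : Loc S a F L) : cen a →* MulAut PSL2 :=
  (MulAut.congr D.e).toMonoidHom.comp ((normalizerMonoidHom L).comp (inclusion D.norm))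

/-- The field part. -/
noncomputable def fld (D : Loc S a F L) : cen a →* (F ≃+* F) := fldHom.comp D.iota

include D

theorem simple : IsSimpleGroup PSL2 :=
  Matrix.ProjectiveSpecialLinearGroup.rank_two_simple (by
    rw [Nat.card_eq_fintype_card]; have := D.three; omega)

theorem iota_apply (g : cen a) (l : L) :
    D.iota g (D.e l) = D.e ⟨(g : G) * l * (g : G)⁻¹,
      (mem_normalizer_iff.1 (D.norm g.2) l).1 l.2⟩ := by
  show D.e ((normalizerMonoidHom L (inclusion D.norm g)) (D.e.symm (D.e l))) = _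
  rw [MulEquiv.symm_apply_apply]
  rfl

theorem iota_of_mem {g : cen a} (hg : (g : G) ∈ L) : D.iota g = MulAut.conj (D.e ⟨g, hg⟩) :=
  MulEquiv.ext fun y => by
    obtain ⟨l, rfl⟩ := D.e.surjective y
    rw [D.iota_apply, MulAut.conj_apply, ← map_mul, ← map_inv, ← map_mul]
    rfl

theorem fld_of_mem {g : cen a} (hg : (g : G) ∈ L) : D.fld g = 1 :=
  fldHom_inn ⟨D.e ⟨g, hg⟩, (D.iota_of_mem hg).symm⟩

theorem mem_zpowers_of_iota {g : cen a} (hg : D.iota g = 1) : (g : G) ∈ zpowers a := by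
  refine D.cent g g.2 fun l hl => ?_
  have h := D.iota_apply g ⟨l, hl⟩
  rw [hg, MulAut.one_apply] at h
  exact mul_inv_eq_iff_eq_mul.1 (congrArg Subtype.val (D.e.injective h).symm)

theorem notMem : a ∉ L := fun h => by
  haveI := D.simple
  have hz : D.e ⟨a, h⟩ ∈ center PSL2 := mem_center_iff.2 fun y => by
    obtain ⟨l, rfl⟩ := D.e.surjective y
    rw [← map_mul, ← map_mul]
    exact congrArg D.e (Subtype.ext (mem_centralizer_singleton_iff.1 (D.le l.2)))
  rcases (inferInstance : (center PSL2).Normal).eq_bot_or_eq_top with hb | ht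
  · rw [hb, mem_bot, MulEquiv.map_eq_one_iff] at hz
    exact D.ne (congrArg Subtype.val hz)
  · exact Walter8.not_comm_psl D.odd ⟨⟨fun x y => mem_center_iff.1 (ht.symm ▸ mem_top y) x⟩⟩

theorem self_mem_cen : a ∈ cen a := mem_centralizer_singleton_iff.2 rfl

theorem fld_self : D.fld ⟨a, D.self_mem_cen⟩ = 1 := by
  show fldHom (D.iota _) = 1
  rw [show D.iota ⟨a, D.self_mem_cen⟩ = 1 from MulEquiv.ext fun y => ?_, map_one]
  obtain ⟨l, rfl⟩ := D.e.surjective y
  rw [D.iota_apply, MulAut.one_apply]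
  refine congrArg D.e (Subtype.ext ?_)
  show a * (l : G) * a⁻¹ = l
  rw [← mem_centralizer_singleton_iff.1 (D.le l.2), mul_inv_cancel_right]

include hE

/-- An element of odd order without field part lies in `L`. -/
theorem mem_of_fld_one {g : cen a} (hg : D.fld g = 1) (ho : Odd (orderOf (g : G))) : (g : G) ∈ L := by
  obtain ⟨y, hy⟩ := GW.mem_inn_of_odd D.odd ((GW.mem_inndiag_iff_fld _).2 hg)
    ((Subgroup.orderOf_coe g ▸ ho).of_dvd_nat (orderOf_map_dvd D.iota g))
  set l := D.e.symm y with hl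
  have h1 : D.iota (⟨l, D.le l.2⟩⁻¹ * g) = 1 := by
    rw [map_mul, map_inv, D.iota_of_mem (g := ⟨l, D.le l.2⟩) l.2, ← hy,
      show (⟨(⟨l, D.le l.2⟩ : cen a), l.2⟩ : L) = l from rfl, hl, MulEquiv.apply_symm_apply,
      inv_mul_cancel]
  obtain ⟨i, hi⟩ := mem_zpowers_iff.1 (D.mem_zpowers_of_iota h1)
  have hg' : (g : G) = (l : G) * a ^ i := by
    rw [hi]
    show (g : G) = (l : G) * ((l : G)⁻¹ * g)
    rw [mul_inv_cancel_left]
  refine ClosedAbelian.mem_of_sq_mem ?_ ho
  have hc : Commute (a ^ i) (l : G) :=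
    ((show Commute a (l : G) from (mem_centralizer_singleton_iff.1 (D.le l.2)).symm)).zpow_left i
  have ha2 : a * a = 1 := hE.sq a D.mem
  rw [hg', show (l : G) * a ^ i * ((l : G) * a ^ i) = (l : G) * (a ^ i * l) * a ^ i by group, hc.eq,
    show (l : G) * ((l : G) * a ^ i) * a ^ i = (l : G) * l * (a ^ i * a ^ i) by group,
    ← (Commute.refl a).mul_zpow, ha2, one_zpow, mul_one]
  exact mul_mem l.2 l.2


/-- Half of the Sylow 2-subgroup lies in `L`. -/
theorem half : Nat.card ((S : Subgroup G) ⊓ L : Subgroup G) = 4 ∧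
    ∀ s ∈ (S : Subgroup G), s ∈ L ∨ a * s ∈ L := by
  classical
  haveI : Fact (Nat.Prime 2) := ⟨Nat.prime_two⟩
  set S' : Subgroup G := (S : Subgroup G) with hS'
  obtain ⟨W, hW⟩ := Sylow.exists_subgroup_card_pow_prime (G := L) 2 (n := 2) (by
    rw [Nat.card_congr D.e.toEquiv]; exact Walter8.four_dvd_psl D.odd)
  set W' := W.map L.subtype
  have hW' : Nat.card W' = 4 := by rw [card_map_of_injective L.subtype_injective, hW]; norm_num
  obtain ⟨c, hc, T, hT, hST, -, hcT⟩ := ClosedAbelian.exists_conj_over (X := cen a) (A := S') (P := W')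
    S.2 (hE.le_cen D.mem) (IsPGroup.of_card (p := 2) (n := 2) hW') ((map_subtype_le _).trans D.le)
  obtain rfl : T = S' := S.is_maximal' hT hST
  have hge : 4 ≤ Nat.card (S' ⊓ L : Subgroup G) := by
    rw [← hW', ← LEBasic.card_map_conj W' c]
    refine Subgroup.card_le_of_le ?_
    rintro _ ⟨w, hw, rfl⟩
    exact ⟨hcT w hw, (mem_normalizer_iff.1 (D.norm hc) w).1 ((map_subtype_le _ : W' ≤ L) hw)⟩
  have h8 := card_dvd_of_le (inf_le_left : S' ⊓ L ≤ S')
  rw [hE.card] at h8
  have h4 : Nat.card (S' ⊓ L : Subgroup G) = 4 := by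
    obtain ⟨j, hj, hj'⟩ := (Nat.dvd_prime_pow Nat.prime_two).1 (show _ ∣ 2 ^ 3 from h8)
    have h2 : 2 ≤ j := (Nat.pow_le_pow_iff_right (le_refl 2)).1 (show 2 ^ 2 ≤ 2 ^ j by rw [← hj']; exact hge)
    rcases (show j = 2 ∨ j = 3 by omega) with rfl | rfl
    · rw [hj']; norm_num
    exfalso
    have hfull : S' ⊓ L = S' := eq_of_le_of_card_ge inf_le_left (by rw [hj', hE.card]; norm_num)
    exact D.notMem (hfull.ge D.mem).2
  refine ⟨h4, fun s hs => ?_⟩
  have hidx : ((S' ⊓ L).subgroupOf S').index = 2 := by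
    have h := ((S' ⊓ L).subgroupOf S').card_mul_index
    rw [Nat.card_congr (subgroupOfEquivOfLe inf_le_left).toEquiv, h4, hE.card] at h
    omega
  by_cases hsL : s ∈ L
  · exact Or.inl hsL
  · have h := (mul_mem_iff_of_index_two hidx (a := ⟨a, D.mem⟩) (b := ⟨s, hs⟩)).2
      ⟨fun h => absurd h.2 D.notMem, fun h => absurd h.2 hsL⟩
    exact Or.inr h.2

/-- The order of the field is `±3` modulo 8. -/
theorem mod_eight : Fintype.card F % 8 = 3 ∨ Fintype.card F % 8 = 5 := by
  set q := Fintype.card F with hq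
  have hC : 2 * Nat.card L ∣ Nat.card G := by
    refine dvd_trans ?_ (card_subgroup_dvd_card (L ⊔ zpowers a))
    have hle : L ≤ L ⊔ zpowers a := le_sup_left
    rw [← (L.subgroupOf (L ⊔ zpowers a)).card_mul_index, Nat.card_congr (subgroupOfEquivOfLe hle).toEquiv,
      mul_comm 2]
    refine Nat.mul_dvd_mul_left _ ?_
    haveI : (L.subgroupOf (L ⊔ zpowers a)).Normal := normal_subgroupOf_of_le_normalizer
      (sup_le le_normalizer (zpowers_le.2 (D.norm D.self_mem_cen)))
    set x : ↥(L ⊔ zpowers a) ⧸ L.subgroupOf (L ⊔ zpowers a) :=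
      QuotientGroup.mk ⟨a, mem_sup_right (mem_zpowers a)⟩ with hx
    have hx2 : orderOf x = 2 := orderOf_eq_prime (p := 2)
      (hp := ⟨Nat.prime_two⟩) (by
        rw [hx, pow_two, ← QuotientGroup.mk_mul, QuotientGroup.eq_one_iff, mem_subgroupOf]
        show a * a ∈ L
        rw [hE.sq a D.mem]; exact one_mem L)
      (fun h => D.notMem (mem_subgroupOf.1 ((QuotientGroup.eq_one_iff _).1 h)))
    rw [index_eq_card, ← hx2]
    exact orderOf_dvd_natCard x
  have hd := Dickson.gcd_mul_card_psl (K := F)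
  rw [Nat.card_eq_fintype_card (α := F), ← hq, ← Nat.card_congr D.e.toEquiv] at hd
  obtain ⟨k, hk⟩ := D.odd
  rw [← hq] at hk
  rw [show Nat.gcd 2 (q - 1) = 2 from Nat.gcd_eq_left ⟨k, by omega⟩] at hd
  by_contra hne
  refine hE.sixteen (dvd_trans ?_ (hd ▸ hC))
  refine dvd_mul_of_dvd_right ?_ _
  have : q % 8 = 1 ∨ q % 8 = 7 := by omega
  obtain ⟨m, hm | hm⟩ : ∃ m, q = 8 * m + 1 ∨ q = 8 * m + 7 := ⟨q / 8, by omega⟩
  · exact ⟨4 * m * m + m, by rw [hm]; ring_nf; omega⟩
  · exact ⟨4 * m * m + 7 * m + 3, by rw [hm]; ring_nf; omega⟩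

theorem fld_of_twoEl {g : cen a} (hg : ClosedAbelian.TwoEl (g : G)) : D.fld g = 1 := by
  haveI : Fact (Nat.Prime 2) := ⟨Nat.prime_two⟩
  obtain ⟨c, hc, T, hT, hST, -, hcT⟩ := ClosedAbelian.exists_conj_over (X := cen a)
    (A := (S : Subgroup G)) (P := zpowers (g : G)) S.2 (hE.le_cen D.mem) hg.isPGroup
    (zpowers_le.2 g.2)
  obtain rfl : T = (S : Subgroup G) := S.is_maximal' hT hST
  set c' : cen a := ⟨c, hc⟩
  have hs := hcT g (mem_zpowers _)
  have key : D.fld (c' * g * c'⁻¹) = 1 := by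
    rcases (D.half hE).2 _ hs with h | h
    · exact D.fld_of_mem h
    · have h' := D.fld_of_mem (g := ⟨a, D.self_mem_cen⟩ * (c' * g * c'⁻¹)) h
      rwa [map_mul, D.fld_self, one_mul] at h'
  rw [map_mul, map_mul, map_inv, mul_inv_eq_one] at key
  exact mul_eq_left.1 key

/-- Without field part the centraliser is `2 × PSL₂(q)`. -/
theorem equiv_of_trivial (h : ∀ g, D.fld g = 1) :
    Nonempty (cen a ≃* Multiplicative (ZMod 2) × PSL2) := by
  have ha2 : a * a = 1 := hE.sq a D.mem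
  set a' : cen a := ⟨a, D.self_mem_cen⟩
  have hs : a' * a' = 1 := Subtype.ext ha2
  have hcases : ∀ x : Multiplicative (ZMod 2), x = 1 ∨ x = Multiplicative.ofAdd 1 := by decide
  have hn : (Multiplicative.ofAdd 1 : Multiplicative (ZMod 2)) ≠ 1 := by decide
  have hh : (Multiplicative.ofAdd 1 : Multiplicative (ZMod 2)) * Multiplicative.ofAdd 1 = 1 := by decide
  let f₁ : Multiplicative (ZMod 2) →* cen a :=
    MonoidHom.mk' (fun z => if z = 1 then 1 else a') fun x y => by
      rcases hcases x with rfl | rfl <;> rcases hcases y with rfl | rfl <;>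
        simp [hn, hh, hs]
  let f₂ : PSL2 →* cen a := (inclusion D.le).comp D.e.symm.toMonoidHom
  have hf₁ : ∀ x, f₁ x = 1 ∨ f₁ x = a' := fun x => by
    rcases hcases x with rfl | rfl
    · exact Or.inl (map_one f₁)
    · exact Or.inr (show (if _ then (1 : cen a) else a') = a' from if_neg hn)
  have hcomm : ∀ x y, Commute (f₁ x) (f₂ y) := fun x y => by
    rcases hf₁ x with e | e <;> rw [e]
    · exact Commute.one_left _
    · exact Subtype.ext (mem_centralizer_singleton_iff.1 (f₂ y).2).symm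
  refine ⟨(MulEquiv.ofBijective (MonoidHom.noncommCoprod f₁ f₂ hcomm) ⟨?_, ?_⟩).symm⟩
  · rw [injective_iff_map_eq_one]
    rintro ⟨x, y⟩ hxy
    rw [MonoidHom.noncommCoprod_apply] at hxy
    rcases hcases x with rfl | rfl
    · rw [map_one, one_mul] at hxy
      refine Prod.ext rfl (D.e.symm.injective ?_)
      rw [Prod.snd_one, map_one]
      exact Subtype.ext (congrArg (fun g : cen a => (g : G)) hxy)
    · exfalso
      have h' : a * ((D.e.symm y : L) : G) = 1 := by
        have := congrArg Subtype.val hxy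
        rwa [show f₁ (Multiplicative.ofAdd 1) = a' from (show (if _ then (1 : cen a) else a') = a' from if_neg hn)] at this
      exact D.notMem (eq_inv_of_mul_eq_one_left h' ▸ inv_mem (D.e.symm y).2)
  · intro g
    obtain ⟨u, v, huv, hu, hv, hut, hvo⟩ := ClosedAbelian.exists_parts (g : G)
    have hvC : v ∈ cen a := zpowers_le.2 g.2 hv
    have huC : u ∈ cen a := zpowers_le.2 g.2 hu
    have hvL : v ∈ L := D.mem_of_fld_one hE (h ⟨v, hvC⟩) hvo
    haveI : Fact (Nat.Prime 2) := ⟨Nat.prime_two⟩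
    obtain ⟨c, hc, T, hT, hST, -, hcT⟩ := ClosedAbelian.exists_conj_over (X := cen a)
      (A := (S : Subgroup G)) (P := zpowers u) S.2 (hE.le_cen D.mem) hut.isPGroup (zpowers_le.2 huC)
    obtain rfl : T = (S : Subgroup G) := S.is_maximal' hT hST
    have hac : c * a = a * c := mem_centralizer_singleton_iff.1 hc
    have hgL : (g : G) ∈ L ∨ a * (g : G) ∈ L := by
      rcases (D.half hE).2 _ (hcT u (mem_zpowers _)) with h1 | h1
      · exact Or.inl (huv ▸ mul_mem ((mem_normalizer_iff.1 (D.norm hc) u).2 h1) hvL)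
      · refine Or.inr (huv ▸ ?_)
        rw [← mul_assoc]
        refine mul_mem ((mem_normalizer_iff.1 (D.norm hc) _).2 ?_) hvL
        rwa [show c * (a * u) * c⁻¹ = a * (c * u * c⁻¹) by rw [← mul_assoc c, hac]; group]
    rcases hgL with h1 | h1
    · refine ⟨(1, D.e ⟨g, h1⟩), ?_⟩
      rw [MonoidHom.noncommCoprod_apply, map_one, one_mul]
      refine Subtype.ext ?_
      show ((D.e.symm (D.e ⟨g, h1⟩) : L) : G) = g
      rw [MulEquiv.symm_apply_apply]
    · refine ⟨(Multiplicative.ofAdd 1, D.e ⟨a * g, h1⟩), ?_⟩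
      rw [MonoidHom.noncommCoprod_apply, show f₁ (Multiplicative.ofAdd 1) = a' from (show (if _ then (1 : cen a) else a') = a' from if_neg hn)]
      refine Subtype.ext ?_
      show a * ((D.e.symm (D.e ⟨a * g, h1⟩) : L) : G) = g
      rw [MulEquiv.symm_apply_apply, ← mul_assoc, ha2, one_mul]

/-- An element of odd order of `L` centralising `S` is trivial. -/
theorem eq_one_of_odd {g : G} (hgL : g ∈ L) (hgS : g ∈ centralizer ((S : Subgroup G) : Set G))
    (ho : Odd (orderOf g)) : g = 1 := by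
  by_contra hg1
  have hV := (D.half hE).1
  obtain ⟨v, hv, hv1⟩ : ∃ v ∈ (S : Subgroup G) ⊓ L, v ≠ 1 :=
    (Subgroup.bot_or_exists_ne_one _).resolve_left fun h => by rw [h, card_bot] at hV; norm_num at hV
  obtain ⟨w, hw, hw1⟩ : ∃ w ∈ (S : Subgroup G) ⊓ L, w ∉ ({1, v} : Set G) := by
    by_contra h
    push Not at h
    have : Nat.card ((S : Subgroup G) ⊓ L : Subgroup G) ≤ 2 := by
      rw [← SetLike.coe_sort_coe, Nat.card_coe_set_eq]
      exact (Set.ncard_le_ncard h (Set.toFinite _)).trans ((Set.ncard_insert_le _ _).trans (by rw [Set.ncard_singleton]))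
    omega
  simp only [Set.mem_insert_iff, Set.mem_singleton_iff, not_or] at hw1
  have hc : ∀ s ∈ (S : Subgroup G), g * s = s * g := fun s hs => (mem_centralizer_iff.1 hgS s hs).symm
  exact hw1.2 ((MaxCent.oddFacts_of_equiv D.odd L D.e).unique g hgL w hw.2 v hv.2 ho hg1 hw1.1
    (hE.sq w hw.1) hv1 (hE.sq v hv.1) (hc w hw.1) (hc v hv.1))

/-- The field part is faithful on the elements of odd order centralising `S`. -/
theorem eq_one_of_fld {g : cen a} (hg : D.fld g = 1) (hgS : (g : G) ∈ centralizer ((S : Subgroup G) : Set G))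
    (ho : Odd (orderOf (g : G))) : g = 1 :=
  Subtype.ext (D.eq_one_of_odd hE (D.mem_of_fld_one hE hg ho) hgS ho)

omit hE

theorem fld_comm (σ τ : F ≃+* F) : σ * τ = τ * σ := by
  obtain ⟨r, hr⟩ := CharP.exists F
  obtain ⟨n, hp, hcard⟩ := FiniteField.card F r
  haveI := Fact.mk hp
  obtain ⟨w⟩ := AutPSL.exists_ringAut_equiv r n hcard
  exact w.injective (by rw [map_mul, map_mul, mul_comm])

theorem fld_cyclic : IsCyclic (F ≃+* F) := by
  obtain ⟨r, hr⟩ := CharP.exists F
  obtain ⟨n, hp, hcard⟩ := FiniteField.card F r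
  haveI := Fact.mk hp
  obtain ⟨w⟩ := AutPSL.exists_ringAut_equiv r n hcard
  exact w.isCyclic.2 inferInstance

/-- A field automorphism of odd prime order makes the field large. -/
theorem eleven_le {p : ℕ} (hp : p.Prime) (hp2 : p ≠ 2) {σ : F ≃+* F} (hσ : orderOf σ = p) :
    11 ≤ Fintype.card F := by
  obtain ⟨r, hr⟩ := CharP.exists F
  obtain ⟨n, hrp, hcard⟩ := FiniteField.card F r
  haveI := Fact.mk hrp
  obtain ⟨w⟩ := AutPSL.exists_ringAut_equiv r n hcard
  haveI : NeZero (n : ℕ) := ⟨n.pos.ne'⟩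
  have hdvd : p ∣ (n : ℕ) := by
    rw [← hσ, ← w.orderOf_eq]
    exact (_root_.orderOf_dvd_natCard _).trans (dvd_of_eq (by
      rw [Nat.card_congr Multiplicative.toAdd, Nat.card_zmod]))
  have h3 : 3 ≤ (n : ℕ) := le_trans (by have := hp.two_le; omega) (Nat.le_of_dvd n.pos hdvd)
  have hr2 : r ≠ 2 := fun e => by
    have := D.odd
    rw [hcard, e, Nat.odd_iff, Nat.pow_mod] at this
    simp [n.pos.ne'] at this
  calc 11 ≤ 3 ^ 3 := by norm_num
    _ ≤ r ^ 3 := Nat.pow_le_pow_left (by have := hrp.two_le; omega) 3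
    _ ≤ r ^ (n : ℕ) := Nat.pow_le_pow_right hrp.pos h3
    _ = Fintype.card F := hcard.symm

include hE

theorem three_dvd : 3 ∣ Nat.card PSL2 := by
  set q := Fintype.card F with hq
  have hd := Dickson.gcd_mul_card_psl (K := F)
  rw [Nat.card_eq_fintype_card (α := F), ← hq] at hd
  have h3 : 3 ∣ q * (q ^ 2 - 1) := by
    by_cases h : 3 ∣ q
    · exact dvd_mul_of_dvd_left h _
    refine dvd_mul_of_dvd_right ?_ _
    rcases (show ∃ m, q = 3 * m + 1 ∨ q = 3 * m + 2 from ⟨q / 3, by omega⟩) with ⟨m, hm | hm⟩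
    · exact ⟨3 * m * m + 2 * m, by rw [hm]; ring_nf; omega⟩
    · exact ⟨3 * m * m + 4 * m + 1, by rw [hm]; ring_nf; omega⟩
  rw [← hd] at h3
  refine (Nat.prime_three.dvd_mul.1 h3).resolve_left fun h => ?_
  have := Nat.le_of_dvd two_pos (h.trans (Nat.gcd_dvd_left _ _))
  omega

/-- The order of a field automorphism induced on `L` does not divide the order of `L`. -/
theorem not_dvd_card {p : ℕ} [Fact p.Prime] (hp2 : p ≠ 2) (hA : ∀ P : Sylow p G, IsMulCommutative P)
    {g : cen a} (hg : orderOf (D.fld g) = p) : ¬ p ∣ Nat.card PSL2 := by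
  intro hdvd
  haveI := D.simple
  set L' := L.subgroupOf (cen a) with hL'
  haveI : L'.Normal := normal_subgroupOf_of_le_normalizer D.norm
  obtain ⟨T⟩ : Nonempty (Sylow p L') := inferInstance
  have htop := Sylow.normalizer_sup_eq_top T
  have hmem : g ∈ (((normalizer (((T : Subgroup L').map L'.subtype : Subgroup (cen a)) : Set (cen a))) ⊔ L' : Subgroup (cen a)) : Set (cen a)) := by
    rw [htop]; trivial
  rw [Subgroup.mul_normal] at hmem
  obtain ⟨n, hn, l, hl, hnl⟩ := hmem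
  rw [← show n * l = g from hnl, map_mul, D.fld_of_mem (mem_subgroupOf.1 hl), mul_one] at hg
  obtain ⟨u, hu, hfu, k, hk⟩ := exists_pPart_map D.fld hg
  have huN := zpowers_le.2 hn hu
  -- the common Sylow subgroup
  set T₀ := (T : Subgroup L').map L'.subtype
  have hXp : IsPGroup p ↥(zpowers u ⊔ T₀) := IsPGroup.to_sup_of_normal_right'
    (IsPGroup.of_card (n := k) (by rw [Nat.card_zpowers, hk])) (T.isPGroup'.map _) (zpowers_le.2 huN)
  obtain ⟨P, hP⟩ := (hXp.map (cen a).subtype).exists_le_sylow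
  have hcomm : ∀ t ∈ T₀, u * t = t * u := fun t ht => Subtype.ext (congrArg Subtype.val
    ((hA P).is_comm.comm ⟨_, hP ⟨u, mem_sup_left (mem_zpowers u), rfl⟩⟩ ⟨_, hP ⟨t, mem_sup_right ht, rfl⟩⟩) :)
  let w : L' ≃* PSL2 := (subgroupOfEquivOfLe D.le).trans D.e
  obtain ⟨t, ht, htne⟩ := moves_sylow hp2 (D.mod_eight hE)
    (D.eleven_le (Fact.out : p.Prime) hp2 hg) (β := D.iota u)
    (fun h => (Fact.out : p.Prime).ne_one (by
      rw [← hg, ← hfu, show D.fld u = 1 from h, orderOf_one]))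
    ⟨1, by rw [pow_one, ← hg, ← hfu]; rfl⟩ hdvd (T.mapSurjective (f := w.toMonoidHom) w.surjective)
  obtain ⟨l', hl', rfl⟩ : t ∈ (T : Subgroup L').map w.toMonoidHom := ht
  refine htne ?_
  show D.iota u (D.e _) = D.e _
  rw [D.iota_apply]
  refine congrArg D.e (Subtype.ext ?_)
  show (u : G) * ((l' : cen a) : G) * (u : G)⁻¹ = ((l' : cen a) : G)
  rw [show (u : G) * ((l' : cen a) : G) = ((l' : cen a) : G) * (u : G) from
    congrArg Subtype.val (hcomm (l' : cen a) ⟨l', hl', rfl⟩), mul_inv_cancel_right]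

/-- The subgroups of prime power order of the centraliser, for a prime not dividing the order of `L`, are
cyclic. -/
theorem cyclic_of {p : ℕ} [Fact p.Prime] (hp2 : p ≠ 2) (hnd : ¬ p ∣ Nat.card PSL2) {X : Subgroup G}
    (hX : IsPGroup p X) (hXC : X ≤ cen a) : IsCyclic X := by
  haveI := D.fld_cyclic
  refine isCyclic_of_injective (D.fld.comp (inclusion hXC)) ((injective_iff_map_eq_one _).2 fun x hx => ?_)
  obtain ⟨k, hk⟩ := hX x
  have hk' : ((x : G)) ^ p ^ k = 1 := congrArg Subtype.val hk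
  have ho : Odd (orderOf (x : G)) :=
    (((Fact.out : p.Prime).odd_of_ne_two hp2).pow).of_dvd_nat (orderOf_dvd_of_pow_eq_one hk')
  have hxL := D.mem_of_fld_one hE (g := inclusion hXC x) hx ho
  refine Subtype.ext (orderOf_eq_one_iff.1 ?_)
  refine Nat.eq_one_of_dvd_coprimes ((Nat.Prime.coprime_iff_not_dvd Fact.out).2 hnd |>.pow_left k)
    (orderOf_dvd_of_pow_eq_one hk') ?_
  rw [← Nat.card_congr D.e.toEquiv]
  exact L.orderOf_dvd_natCard hxL

/-- A non-trivial field part gives an element of prime order `p ≥ 5` centralising `S`. -/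
theorem exists_central (hA : ∀ p, p.Prime → ∀ P : Sylow p G, IsMulCommutative P)
    (h : ∃ g, D.fld g ≠ 1) :
    ∃ (p : ℕ) (x : G), p.Prime ∧ 5 ≤ p ∧ orderOf x = p ∧ x ∈ centralizer ((S : Subgroup G) : Set G) ∧
      ¬ p ∣ Nat.card PSL2 := by
  haveI : Fact (Nat.Prime 2) := ⟨Nat.prime_two⟩
  obtain ⟨g, hg⟩ := h
  obtain ⟨u, v, huv, hu, hv, hut, hvo⟩ := ClosedAbelian.exists_parts (g : G)
  set u' : cen a := ⟨u, zpowers_le.2 g.2 hu⟩
  set v' : cen a := ⟨v, zpowers_le.2 g.2 hv⟩
  have hg' : g = u' * v' := Subtype.ext huv.symm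
  rw [hg', map_mul, D.fld_of_twoEl hE (g := u') hut, one_mul] at hg
  obtain ⟨p, hp, hpd⟩ := Nat.exists_prime_and_dvd (mt orderOf_eq_one_iff.1 hg)
  haveI := Fact.mk hp
  haveI : Finite (F ≃+* F) := Finite.of_injective _ DFunLike.coe_injective
  have hp2 : p ≠ 2 := fun e => by
    have h' := hvo
    rw [← Nat.not_even_iff_odd, even_iff_two_dvd] at h'
    refine h' ?_
    rw [← Subgroup.orderOf_mk v (zpowers_le.2 g.2 hv)]
    exact (e ▸ hpd).trans (orderOf_map_dvd D.fld v')
  have hpow : orderOf (D.fld (v' ^ (orderOf (D.fld v') / p))) = p := by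
    rw [map_pow, orderOf_pow_orderOf_div (orderOf_pos _).ne' hpd]
  set g₁ := v' ^ (orderOf (D.fld v') / p)
  have hnd := D.not_dvd_card hE hp2 (hA p hp) hpow
  have h5 : 5 ≤ p := by
    have h3 : p ≠ 3 := fun e => hnd (e ▸ D.three_dvd hE)
    have h4 : p ≠ 4 := fun e => by rw [e] at hp; norm_num at hp
    have := hp.two_le
    omega
  refine ⟨p, ?_⟩
  have hP : (S : Subgroup G) ≤ cen a := hE.le_cen D.mem
  let P : Sylow 2 (cen a) := S.subtype hP
  have hPc : (P : Subgroup (cen a)) = (S : Subgroup G).subgroupOf (cen a) := Sylow.coe_subtype _ _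
  have htop := Sylow.normalizer_sup_eq_top' (N := D.fld.ker) P fun s hs => MonoidHom.mem_ker.2
    (D.fld_of_twoEl hE (ClosedAbelian.TwoEl.of_group S.2 (mem_subgroupOf.1 (hPc ▸ hs))))
  have hmem := htop.ge (mem_top g₁)
  rw [← SetLike.mem_coe, Subgroup.mul_normal] at hmem
  obtain ⟨n, hn, l, hl, hnl⟩ := hmem
  rw [← show n * l = g₁ from hnl, map_mul, MonoidHom.mem_ker.1 hl, mul_one] at hpow
  obtain ⟨w, hw, hfw, k, hk⟩ := exists_pPart_map D.fld hpow
  have hwN := zpowers_le.2 hn hw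
  have hwN' : (w : G) ∈ normalizer ((S : Subgroup G) : Set G) := by
    refine mem_normalizer_iff.2 fun s => ⟨fun hs => ?_, fun hs => ?_⟩
    · have := (mem_normalizer_iff.1 hwN ⟨s, hP hs⟩).1 (by rw [hPc]; exact mem_subgroupOf.2 hs)
      rw [hPc] at this
      exact mem_subgroupOf.1 this
    · have hsC : s ∈ cen a := by
        have h' := mul_mem (mul_mem (inv_mem w.2) (hP hs)) w.2
        rwa [show (w : G)⁻¹ * ((w : G) * s * (w : G)⁻¹) * w = s by group] at h'
      have := (mem_normalizer_iff.1 hwN ⟨s, hsC⟩).2 (by rw [hPc]; exact mem_subgroupOf.2 hs)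
      rw [hPc] at this
      exact mem_subgroupOf.1 this
  have hwC := mem_centralizer_of_pElement hE h5 (g := (w : G)) (k := k)
    (by rw [← hk, ← Subgroup.orderOf_coe, pow_orderOf_eq_one]) hwN'
    (Or.inr ⟨a, D.mem, D.ne, mem_centralizer_singleton_iff.1 w.2⟩)
  have hpw : p ∣ orderOf (w : G) := by
    rw [Subgroup.orderOf_coe, ← hpow, ← hfw]
    exact orderOf_map_dvd _ _
  exact ⟨(w : G) ^ (orderOf (w : G) / p), hp, h5, orderOf_pow_orderOf_div (orderOf_pos _).ne' hpw,
    pow_mem hwC _, hnd⟩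

/-- The normaliser of `S` centralises the elements of odd order of the centraliser of `S`. -/
theorem normalizer_comm {n d : G} (hn : n ∈ normalizer ((S : Subgroup G) : Set G))
    (hd : d ∈ centralizer ((S : Subgroup G) : Set G)) (hdo : Odd (orderOf d)) : n * d = d * n := by
  haveI : Fact (Nat.Prime 2) := ⟨Nat.prime_two⟩
  set N := normalizer ((S : Subgroup G) : Set G) with hN
  set Dset : Set G := {d | d ∈ centralizer ((S : Subgroup G) : Set G) ∧ Odd (orderOf d)} with hDset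
  have hinv : ∀ g ∈ N, ∀ d ∈ Dset, g * d * g⁻¹ ∈ Dset := by
    intro g hg d hd
    refine ⟨mem_centralizer_iff.2 fun s hs => ?_, ?_⟩
    · have h := mem_centralizer_iff.1 hd.1 _ ((mem_normalizer_iff.1 (inv_mem hg) s).1 hs)
      rw [inv_inv] at h
      calc s * (g * d * g⁻¹) = g * (g⁻¹ * s * g * d) * g⁻¹ := by group
        _ = g * d * g⁻¹ * s := by rw [h]; group
    · rw [show g * d * g⁻¹ = MulAut.conj g d from rfl, MulEquiv.orderOf_eq]
      exact hd.2
  have hCa : ∀ d ∈ Dset, d ∈ cen a := fun d hd =>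
    mem_centralizer_singleton_iff.2 (mem_centralizer_iff.1 hd.1 a D.mem).symm
  have hstab : ∀ g ∈ N, g ∈ cen a → ∀ d ∈ Dset, g * d = d * g := by
    intro g hg hga d hd
    set d' := g * d * g⁻¹ with hd'
    have hd'D := hinv g hg d hd
    set z : cen a := ⟨d, hCa d hd⟩⁻¹ * (⟨g, hga⟩ * ⟨d, hCa d hd⟩ * ⟨g, hga⟩⁻¹)
    have hz : D.fld z = 1 := by
      simp only [z, map_mul, map_inv, D.fld_comm (D.fld ⟨g, hga⟩), mul_inv_cancel_right, inv_mul_cancel]
    have hzS : (z : G) ∈ centralizer ((S : Subgroup G) : Set G) := mul_mem (inv_mem hd.1) hd'D.1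
    obtain ⟨u, v, huv, hu, hv, hut, hvo⟩ := ClosedAbelian.exists_parts (z : G)
    have hv1 : v = 1 := by
      obtain ⟨i, rfl⟩ := mem_zpowers_iff.1 hv
      exact congrArg Subtype.val (D.eq_one_of_fld hE (g := z ^ i) (by rw [map_zpow, hz, one_zpow])
        (zpow_mem hzS i) (by rwa [Subgroup.coe_zpow]))
    rw [hv1, mul_one] at huv
    have huS : (z : G) ∈ (S : Subgroup G) :=
      twoEl_mem (huv ▸ hut) (centralizer_le_normalizer _ hzS)
    have hz2 : (z : G) * (z : G) = 1 := hE.sq _ huS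
    have hcz : Commute d (z : G) := (mem_centralizer_iff.1 hd.1 _ huS).symm
    have e : d' = d * (z : G) := by
      show d' = d * (d⁻¹ * d')
      rw [mul_inv_cancel_left]
    have hsq : d' * d' = d * d := by
      rw [e, hcz.symm.mul_mul_mul_comm, hz2, mul_one]
    obtain ⟨i, hi⟩ := mem_zpowers_iff.1 (ClosedAbelian.mem_of_sq_mem (H := zpowers d)
      (by rw [hsq]; exact mul_mem (mem_zpowers d) (mem_zpowers d)) hd'D.2)
    have hz1 : (z : G) = 1 := by
      refine (huv ▸ hut : ClosedAbelian.TwoEl (z : G)).eq_one_of_odd (hd.2.of_dvd_nat ?_)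
      refine orderOf_dvd_of_mem_zpowers ?_
      rw [show (z : G) = d⁻¹ * d' by rw [e, inv_mul_cancel_left], hd', ← hi]
      exact mul_mem (inv_mem (mem_zpowers d)) (zpow_mem (mem_zpowers d) i)
    rw [hz1, mul_one] at e
    exact mul_inv_eq_iff_eq_mul.1 e
  set M := N ⊓ centralizer Dset with hM
  obtain ⟨y, hy, hya, hyc⟩ := hE.moves a D.mem D.ne
  have hyM : y ∈ M := ⟨hy, mem_centralizer_iff.2 fun d hd =>
    (hstab y hy (mem_centralizer_singleton_iff.2 hya) d hd).symm⟩
  have hMn : ∀ n ∈ N, ∀ m ∈ M, n * m * n⁻¹ ∈ M := by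
    intro n hn m hm
    refine ⟨N.mul_mem (N.mul_mem hn hm.1) (N.inv_mem hn), mem_centralizer_iff.2 fun d hd => ?_⟩
    have h := mem_centralizer_iff.1 hm.2 _ (hinv n⁻¹ (inv_mem hn) d hd)
    rw [inv_inv] at h
    calc d * (n * m * n⁻¹) = n * (n⁻¹ * d * n * m) * n⁻¹ := by group
      _ = n * m * n⁻¹ * d := by rw [h]; group
  obtain ⟨htr, -⟩ := transitive_of_moves hE D.mem D.ne M hMn inf_le_left hyM hyc
  obtain ⟨m, hm, e⟩ := htr (n * a * n⁻¹) ((mem_normalizer_iff.1 hn a).1 D.mem)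
    (fun h => D.ne (conj_eq_one_iff.1 h))
  have hmn : m⁻¹ * n ∈ cen a := mem_centralizer_singleton_iff.2 (by
    calc m⁻¹ * n * a = m⁻¹ * (n * a * n⁻¹) * n := by group
      _ = a * (m⁻¹ * n) := by rw [← e]; group)
  have h1 := hstab _ (mul_mem (inv_mem hm.1) hn) hmn d ⟨hd, hdo⟩
  have h2 := (mem_centralizer_iff.1 hm.2 d ⟨hd, hdo⟩).symm
  calc n * d = m * (m⁻¹ * n * d) := by group
    _ = m * d * (m⁻¹ * n) := by rw [h1]; group
    _ = d * n := by rw [h2]; group

/-- An odd subgroup of `C(a)` normalised by `S` and by an element fixing `a` and moving `S` centralises `S`. -/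
theorem odd_le_centralizer (hL : LType (S : Subgroup G)) (hcore : ClosedAbelian.core (cen a) = ⊥)
    {R : Subgroup G} (hR : R ≤ cen a) (hRo : ¬ 2 ∣ Nat.card R)
    (hSR : (S : Subgroup G) ≤ normalizer (R : Set G)) {y : G}
    (hy : y ∈ normalizer ((S : Subgroup G) : Set G)) (hyR : y ∈ normalizer (R : Set G))
    (hya : y * a = a * y) (hyc : y ∉ centralizer ((S : Subgroup G) : Set G)) :
    R ≤ centralizer ((S : Subgroup G) : Set G) := by
  set A : Subgroup G := (S : Subgroup G) ⊓ L with hA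
  have hAc : IsMulCommutative A := ⟨⟨fun x z => Subtype.ext (hE.comm x.2.1 z.2.1)⟩⟩
  haveI := hAc
  have hA4 : Nat.card A = 4 := (D.half hE).1
  have hnc : ¬ IsCyclic A := fun hc => by
    obtain ⟨z, hz⟩ := IsCyclic.exists_ofOrder_eq_natCard (α := A)
    have h2 : orderOf z ∣ 2 := orderOf_dvd_of_pow_eq_one (Subtype.ext (by
      rw [SubmonoidClass.coe_pow, pow_two]; exact hE.sq z z.2.1))
    rw [hz, hA4] at h2
    norm_num at h2
  have hcop : (Nat.card A).Coprime (Nat.card R) := by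
    rw [hA4, show 4 = 2 ^ 2 from rfl]
    exact ((Nat.prime_two.coprime_iff_not_dvd).2 hRo).pow_left 2
  rw [← CoprimeAct.generated_by_centralizers hnc (inf_le_left.trans hSR) hcop]
  refine iSup₂_le fun b hb r hr => mem_centralizer_iff.2 fun s hs => ?_
  obtain ⟨⟨hbS, hbL⟩, hb1⟩ := hb
  have hba : b ≠ a := fun e => D.notMem (e ▸ hbL)
  set w := s * r * s⁻¹ * r⁻¹ with hw
  have hss : s⁻¹ = s := inv_eq_of_mul_eq_one_right (hE.sq s hs)
  have hrb : r * b = b * r := mem_centralizer_singleton_iff.1 hr.2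
  have hwR : w ∈ R := mul_mem ((mem_normalizer_iff.1 (hSR hs) r).1 hr.1) (inv_mem hr.1)
  have hwb : w * b = b * w := by
    have hsb : Commute s b := hE.comm hs hbS
    exact (((hsb.mul_left (show Commute r b from hrb)).mul_left hsb.inv_left).mul_left
      (show Commute r b from hrb).inv_left).eq
  have hwi : Walter8.InvBy (S : Subgroup G) w := ⟨s, hs, by
    simp only [hw, hss]
    calc s * (s * r * s * r⁻¹) * s = s * s * r * s * r⁻¹ * s := by group
      _ = r * s * r⁻¹ * s := by rw [hE.sq s hs, one_mul]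
      _ = (s⁻¹ * r * s⁻¹ * r⁻¹)⁻¹ := by group
      _ = (s * r * s * r⁻¹)⁻¹ := by rw [hss]⟩
  set c := y * b * y⁻¹ with hc
  have hcS : c ∈ (S : Subgroup G) := (mem_normalizer_iff.1 hy b).1 hbS
  have hc1 : c ≠ 1 := fun e => hb1 (conj_eq_one_iff.1 e)
  have hca : c ≠ a := fun e => hba (by
    rw [show b = y⁻¹ * c * y by rw [hc]; group, e, mul_assoc, ← hya, inv_mul_cancel_left])
  have hcb : c ≠ b := fun e => hyc (mem_centralizer_of_fix hE D.mem hbS D.ne hb1 hba.symm hy hya
    (mul_inv_eq_iff_eq_mul.1 e))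
  have hcab : c ≠ a * b := fun e => hyc (mem_centralizer_of_sq hE hy
    (mem_centralizer_of_fix hE D.mem hbS D.ne hb1 hba.symm (mul_mem hy hy)
      (by rw [mul_assoc, hya, ← mul_assoc, hya, mul_assoc]) (by
        have e' : y * b = a * b * y := mul_inv_eq_iff_eq_mul.1 e
        rw [mul_assoc, e', ← mul_assoc, ← mul_assoc, hya, mul_assoc a y b, e', ← mul_assoc, ← mul_assoc,
          hE.sq a D.mem, one_mul, mul_assoc])))
  rcases Walter8.LType.oneLine hE hL a D.mem D.ne b hbS hb1 hba c hcS hc1 hca hcb hcab R hR hRo hSR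
      w hwR (y * w * y⁻¹) ((mem_normalizer_iff.1 hyR w).1 hwR) hwb (by
        rw [hc]
        calc y * w * y⁻¹ * (y * b * y⁻¹) = y * (w * b) * y⁻¹ := by group
          _ = y * b * y⁻¹ * (y * w * y⁻¹) := by rw [hwb]; group) hwi (by
        obtain ⟨s', hs', e⟩ := hwi
        refine ⟨y * s' * y⁻¹, (mem_normalizer_iff.1 hy s').1 hs', ?_⟩
        calc y * s' * y⁻¹ * (y * w * y⁻¹) * (y * s' * y⁻¹)⁻¹ = y * (s' * w * s'⁻¹) * y⁻¹ := by group
          _ = (y * w * y⁻¹)⁻¹ := by rw [e]; group) with h | h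
  · rw [hcore, mem_bot] at h
    exact mul_inv_eq_iff_eq_mul.1 (mul_inv_eq_one.1 h)
  · rw [hcore, mem_bot] at h
    exact mul_inv_eq_iff_eq_mul.1 (mul_inv_eq_one.1 (conj_eq_one_iff.1 h))

end Loc

end Cfsg.Agent.AllAbelian
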