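import Cfsg.Agent.Lib.JanThom.Main
import Cfsg.Agent.Lib.JanThom.Fixed
import Cfsg.Agent.Lib.JanThom.TorusFns
import Cfsg.Agent.Lib.JanThom.RowsEight

/-!
The groups of Ree order from the Janko–Thompson setup have non-abelian Sylow 3-subgroups: for an element
`y` of order three centralising an involution, the column `b` tested against `|χ(y)|²` bounds the number
of pairs in the class of `y` with product `τ`, and that number is too large if `|C(y)| ≥ 2q³`.
-/

set_option autoImplicit false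
set_option linter.unusedSectionVars false
set_option linter.style.haveILetI false

namespace Cfsg.Agent.AllAbelian

open Cfsg Cfsg.Agent.Char Cfsg.Agent.JanThom
open scoped ComplexConjugate Classical

universe u v

variable {G : Type u} [Group G] [Fintype G] {L : Type v} [Group L] [Fintype L] {Q : ℤ}

/-! ### The class products of the class of `y` -/

/-- The pairs from the class of `y` with quotient `g`, weighted. -/
noncomputable def wt (y g : G) : ℝ :=
  (Nat.card {a : G // IsConj y a ∧ IsConj y⁻¹ (a⁻¹ * g⁻¹)} : ℝ) *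
    (Nat.card (Subgroup.centralizer ({y} : Set G)) : ℝ) ^ 2 / (Nat.card G : ℝ)

theorem wt_nonneg (y g : G) : 0 ≤ wt y g := by unfold wt; positivity


/-- The weighted squares of the values at `y`. -/
noncomputable def fy (y : G) (χ : IrrCharacter G) : ℝ :=
  Complex.normSq ((χ : G → ℂ) y) / (charDegree (χ : G → ℂ) : ℝ)

theorem wt_eq (y g : G) :
    (wt y g : ℂ) = ∑ χ : IrrCharacter G, (fy y χ : ℂ) * (χ : G → ℂ) g := by
  have hcen : Subgroup.centralizer ({y⁻¹} : Set G) = Subgroup.centralizer ({y} : Set G) := by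
    ext c
    simp only [Subgroup.mem_centralizer_singleton_iff]
    exact ⟨fun h => Commute.inv_right_iff.1 (show Commute c y⁻¹ from h),
      fun h => Commute.inv_right (show Commute c y from h)⟩
  have h := ClassCount.pair_count y y⁻¹ g⁻¹
  rw [hcen] at h
  have hG : (Nat.card G : ℂ) ≠ 0 := Nat.cast_ne_zero.2 Nat.card_pos.ne'
  unfold wt
  push_cast
  rw [div_eq_iff hG, pow_two, ← mul_assoc, h, mul_comm]
  refine congrArg (· * (Nat.card G : ℂ)) (Finset.sum_congr rfl fun χ _ => ?_)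
  have hc := IsIrrCharacter.isCharacter χ.2
  unfold fy
  push_cast
  rw [CharX.irr_deg, ← Complex.mul_conj, IsCharacter.inv hc, IsCharacter.inv hc, Complex.conj_conj]
  ring

theorem wt_conj (y g c : G) : wt y (c * g * c⁻¹) = wt y g := by
  refine Complex.ofReal_injective ?_
  rw [wt_eq, wt_eq]
  exact Finset.sum_congr rfl fun χ _ => by
    rw [IsCharacter.isClassFunction (IsIrrCharacter.isCharacter χ.2)]

/-- The sum of the squares of a column is the order of the centraliser. -/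
theorem sum_normSq (y : G) : ∑ χ : IrrCharacter G, Complex.normSq ((χ : G → ℂ) y) =
    (Nat.card (Subgroup.centralizer ({y} : Set G)) : ℝ) := by
  refine Complex.ofReal_injective ?_
  rw [Complex.ofReal_sum, Complex.ofReal_natCast]
  rw [show (Nat.card (Subgroup.centralizer ({y} : Set G)) : ℂ) =
    ∑ ξ : IrrCharacter G, (ξ : G → ℂ) y * conj ((ξ : G → ℂ) y) by
    rw [ClassCount.indicator_eq, if_pos (IsConj.refl y)]]
  exact Finset.sum_congr rfl fun χ _ => by rw [Complex.mul_conj]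

variable (E : Setup G L Q)

/-- A section function against the weights. -/
theorem sum_z {X : Subgroup L} (hX : Odd (Nat.card X)) (lam : X →* ℂˣ) (y : G) :
    (∑ χ, (E.z hX lam χ : ℂ) * (fy y χ : ℂ)) * (Nat.card X : ℂ) =
      ∑ x : X, conj (lam x : ℂ) * (wt y (E.ι (c2, (x : L))) : ℂ) := by
  rw [Finset.sum_mul]
  calc ∑ χ, (E.z hX lam χ : ℂ) * (fy y χ : ℂ) * (Nat.card X : ℂ)
      = ∑ χ : IrrCharacter G, ∑ x : X,
          conj (lam x : ℂ) * ((fy y χ : ℂ) * (χ : G → ℂ) (E.ι (c2, (x : L)))) := by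
        refine Finset.sum_congr rfl fun χ _ => ?_
        rw [show (E.z hX lam χ : ℂ) * (fy y χ : ℂ) * (Nat.card X : ℂ) =
          ((E.z hX lam χ : ℂ) * (Nat.card X : ℂ)) * (fy y χ : ℂ) by ring, E.z_spec, Finset.sum_mul]
        exact Finset.sum_congr rfl fun x _ => by ring
    _ = _ := by
        rw [Finset.sum_comm]
        exact Finset.sum_congr rfl fun x _ => by rw [wt_eq, Finset.mul_sum]

/-- Each non-trivial character of `U` is met `q` times by the two orbits. -/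
theorem orbit_sum [Fintype (Subgroup.normalizer (E.D.U : Set L))] [Fintype (E.D.U →* ℂˣ)]
    (F : (E.D.U →* ℂˣ) → ℂ) :
    ∑ g : Subgroup.normalizer (E.D.U : Set L),
      (F (cjChar E.D.U g E.D.psi) + F (cjChar E.D.U g E.D.psi')) =
      (Q.natAbs : ℂ) * ((∑ f, F f) - F 1) := by
  obtain ⟨p1, p2, p3, p4⟩ := E.D.psi_spec
  have orb : ∀ f : E.D.U →* ℂˣ, f ≠ 1 →
      ∑ g : Subgroup.normalizer (E.D.U : Set L), F (cjChar E.D.U g f) =
        (Q.natAbs : ℂ) * ∑ f' ∈ Finset.univ.image (fun g => cjChar E.D.U g f), F f' := by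
    intro f hf
    rw [Finset.sum_comp F (fun g => cjChar E.D.U g f), Finset.mul_sum]
    refine Finset.sum_congr rfl fun f' hf' => ?_
    obtain ⟨g₀, -, rfl⟩ := Finset.mem_image.1 hf'
    rw [nsmul_eq_mul]
    congr 2
    convert E.D.U_orbit_count hf g₀
  rw [Finset.sum_add_distrib, orb _ p1, orb _ p2, ← mul_add]
  congr 1
  rw [← Finset.sum_erase_eq_sub (Finset.mem_univ (1 : E.D.U →* ℂˣ)), ← Finset.sum_union]
  · refine Finset.sum_congr (Finset.ext fun f => ?_) fun _ _ => rfl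
    simp only [Finset.mem_union, Finset.mem_image, Finset.mem_univ, true_and, Finset.mem_erase,
      and_true, ne_eq]
    constructor
    · have hne : ∀ (f : E.D.U →* ℂˣ) g, f ≠ 1 → cjChar E.D.U g f ≠ 1 := fun f g hf h => hf (by
        have h' := congrArg (cjChar E.D.U g⁻¹) h
        rw [← cjChar_mul, mul_inv_cancel, cjChar_one] at h'
        rw [h']
        exact MonoidHom.ext fun x => rfl)
      rintro (⟨g, rfl⟩ | ⟨g, rfl⟩)
      exacts [hne _ _ p1, hne _ _ p2]
    · intro hf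
      obtain ⟨g, hg | hg⟩ := p4 f hf
      exacts [Or.inl ⟨g, hg⟩, Or.inr ⟨g, hg⟩]
  · rw [Finset.disjoint_left]
    intro f h1 h2
    obtain ⟨g, -, hg⟩ := Finset.mem_image.1 h1
    obtain ⟨g', -, hg'⟩ := Finset.mem_image.1 h2
    refine p3 (g * g'⁻¹) ?_
    rw [cjChar_mul, hg, ← hg', ← cjChar_mul, mul_inv_cancel, cjChar_one]

theorem wt_norm (y : G) (g : Subgroup.normalizer (E.D.U : Set L)) (x : E.D.U) :
    wt y (E.ι (c2, ((Subgroup.normalizerMonoidHom E.D.U g) x : L))) = wt y (E.ι (c2, (x : L))) := by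
  rw [show E.ι (c2, ((Subgroup.normalizerMonoidHom E.D.U g) x : L)) =
    E.ι (1, (g : L)) * E.ι (c2, (x : L)) * (E.ι (1, (g : L)))⁻¹ by
    rw [← map_inv, ← map_mul, ← map_mul]
    refine congrArg E.ι (Prod.ext ?_ rfl)
    show c2 = 1 * c2 * 1⁻¹
    rw [one_mul, inv_one, mul_one], wt_conj]

/-- The two rows of `U` against the weights. -/
theorem psi_sum (y : G) :
    ((Q.natAbs : ℂ) - 1) *
        ∑ x : E.D.U, conj ((E.D.psi x : ℂ) + (E.D.psi' x : ℂ)) * (wt y (E.ι (c2, (x : L))) : ℂ) =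
      2 * ((Q.natAbs : ℂ) * (wt y E.τ : ℂ) - ∑ x : E.D.U, (wt y (E.ι (c2, (x : L))) : ℂ)) := by
  haveI : Fintype (Subgroup.normalizer (E.D.U : Set L)) := Fintype.ofFinite _
  haveI : Finite (E.D.U →* ℂˣ) :=
    Nat.finite_of_card_ne_zero (by rw [card_dual E.D.U E.D.U_comm]; exact Nat.card_pos.ne')
  haveI : Fintype (E.D.U →* ℂˣ) := Fintype.ofFinite _
  obtain ⟨W, hW⟩ : ∃ W : E.D.U → ℂ, ∀ x : E.D.U, (wt y (E.ι (c2, (x : L))) : ℂ) = W x := ⟨_, fun _ => rfl⟩
  have hW1 : (wt y E.τ : ℂ) = W 1 := by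
    rw [← hW, show E.ι (c2, ((1 : E.D.U) : L)) = E.τ from rfl]
  rw [hW1]
  simp only [hW]
  set S : ℂ := ∑ x, conj ((E.D.psi x : ℂ) + (E.D.psi' x : ℂ)) * W x with hS
  have hinv : ∀ (g : Subgroup.normalizer (E.D.U : Set L)) (x : E.D.U),
      W ((Subgroup.normalizerMonoidHom E.D.U g) x) = W x := fun g x => by
    rw [← hW, ← hW, wt_norm]
  have hgS : ∀ g : Subgroup.normalizer (E.D.U : Set L),
      S = ∑ x, conj ((cjChar E.D.U g E.D.psi x : ℂ) + (cjChar E.D.U g E.D.psi' x : ℂ)) * W x := by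
    intro g
    refine (Fintype.sum_equiv (Subgroup.normalizerMonoidHom E.D.U g).toEquiv _ _ fun x => ?_).symm
    show _ = conj ((E.D.psi ((Subgroup.normalizerMonoidHom E.D.U g) x) : ℂ) +
      (E.D.psi' ((Subgroup.normalizerMonoidHom E.D.U g) x) : ℂ)) * W ((Subgroup.normalizerMonoidHom E.D.U g) x)
    rw [hinv]
    rfl
  have hNS : (Nat.card (Subgroup.normalizer (E.D.U : Set L)) : ℂ) * S =
      (Q.natAbs : ℂ) * ((Q.natAbs : ℂ) * W 1 - ∑ x, W x) := by
    calc (Nat.card (Subgroup.normalizer (E.D.U : Set L)) : ℂ) * S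
        = ∑ g : Subgroup.normalizer (E.D.U : Set L), ∑ x,
            conj ((cjChar E.D.U g E.D.psi x : ℂ) + (cjChar E.D.U g E.D.psi' x : ℂ)) * W x := by
          rw [← Finset.sum_congr rfl fun g _ => hgS g, Finset.sum_const, Finset.card_univ, nsmul_eq_mul,
            Nat.card_eq_fintype_card]
      _ = ∑ x, conj (∑ g : Subgroup.normalizer (E.D.U : Set L),
            ((cjChar E.D.U g E.D.psi x : ℂ) + (cjChar E.D.U g E.D.psi' x : ℂ))) * W x := by
          rw [Finset.sum_comm]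
          exact Finset.sum_congr rfl fun x _ => by rw [map_sum, Finset.sum_mul]
      _ = ∑ x, ((Q.natAbs : ℂ) * ((if x = 1 then (Q.natAbs : ℂ) else 0) - 1)) * W x := by
          refine Finset.sum_congr rfl fun x _ => ?_
          rw [orbit_sum E fun f => (f x : ℂ), sum_dual E.D.U E.D.U_comm, E.D.card_U]
          congr 1
          simp only [MonoidHom.one_apply, Units.val_one]
          split_ifs <;> simp only [map_mul, map_sub, map_zero, map_one, map_natCast]
      _ = _ := by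
          simp only [mul_assoc, ← Finset.mul_sum, sub_mul, one_mul, Finset.sum_sub_distrib, ite_mul,
            zero_mul]
          rw [Finset.sum_ite_eq' Finset.univ (1 : E.D.U), if_pos (Finset.mem_univ _)]
  have hN : (Nat.card (Subgroup.normalizer (E.D.U : Set L)) : ℂ) * 2 =
      (Q.natAbs : ℂ) * ((Q.natAbs : ℂ) - 1) := by
    have h := congrArg (Int.cast (R := ℂ)) E.D.card_NU'
    simp only [Int.cast_mul, Int.cast_sub, Int.cast_natCast, Int.cast_ofNat, Int.cast_one] at h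
    exact h
  refine mul_left_cancel₀ (Nat.cast_ne_zero.2 (show Q.natAbs ≠ 0 by have := E.D.Q_large; omega)) ?_
  linear_combination 2 * hNS - S * hN

/-- The column `b` against the weights is bounded below by the term at `τ`. -/
theorem bc_lower (y : G) (hQ0 : 0 < Q) :
    2 / ((Q.natAbs : ℝ) * ((Q.natAbs : ℝ) - 1)) * wt y E.τ ≤ ∑ χ, (E.bc χ : ℝ) * fy y χ := by
  have hk := sum_z E E.D.odd_Zk (1 : E.D.Zk →* ℂˣ) y
  have hu := sum_z E E.D.odd_U E.D.psi y
  have hu' := sum_z E E.D.odd_U E.D.psi' y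
  have hS := psi_sum E y
  simp only [MonoidHom.one_apply, Units.val_one, map_one, one_mul, E.D.card_Zk] at hk
  rw [E.D.card_U] at hu hu'
  simp only [map_add, add_mul, Finset.sum_add_distrib] at hS
  have htot : ((∑ χ, (E.bc χ : ℝ) * fy y χ : ℝ) : ℂ) = (∑ χ, (E.zk 1 χ : ℂ) * (fy y χ : ℂ)) -
      ((∑ χ, (E.zu E.D.psi χ : ℂ) * (fy y χ : ℂ)) + ∑ χ, (E.zu E.D.psi' χ : ℂ) * (fy y χ : ℂ)) := by
    rw [Complex.ofReal_sum, ← Finset.sum_add_distrib, ← Finset.sum_sub_distrib]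
    refine Finset.sum_congr rfl fun χ _ => ?_
    rw [Setup.bc, Setup.rho]
    push_cast
    ring
  have hq11 : (11 : ℕ) ≤ Q.natAbs := E.D.Q_large
  have h2k : 2 * E.D.k + 1 = Q.natAbs := by have := E.D.k_eq; omega
  have h2k' : 2 * (E.D.k : ℂ) + 1 = (Q.natAbs : ℂ) := by exact_mod_cast h2k
  set wk : ℝ := ∑ x : E.D.Zk, wt y (E.ι (c2, (x : L))) with hwk
  set wu : ℝ := ∑ x : E.D.U, wt y (E.ι (c2, (x : L))) with hwu
  set T := ∑ χ, (E.bc χ : ℝ) * fy y χ with hT
  have h1τ : ∀ X : Subgroup L, ∀ [Fintype X], wt y E.τ ≤ ∑ x : X, wt y (E.ι (c2, (x : L))) := by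
    intro X _
    have h := Finset.single_le_sum (f := fun x : X => wt y (E.ι (c2, (x : L))))
      (fun x _ => wt_nonneg y (E.ι (c2, (x : L)))) (Finset.mem_univ (1 : X))
    simp only [Subgroup.coe_one] at h
    exact h
  have hwk1 : wt y E.τ ≤ wk := h1τ _
  have hwu1 : wt y E.τ ≤ wu := h1τ _
  have key : T * (Q.natAbs : ℝ) * ((Q.natAbs : ℝ) - 1) =
      2 * (Q.natAbs : ℝ) * wk - 2 * ((Q.natAbs : ℝ) * wt y E.τ - wu) := by
    refine Complex.ofReal_injective ?_
    simp only [Complex.ofReal_mul, Complex.ofReal_sub, Complex.ofReal_natCast, Complex.ofReal_one,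
      Complex.ofReal_ofNat, hwk, hwu, Complex.ofReal_sum, htot]
    unfold Setup.zk Setup.zu
    linear_combination (-((Q.natAbs : ℂ) * ∑ χ, (E.z E.D.odd_Zk 1 χ : ℂ) * (fy y χ : ℂ))) * h2k' +
      2 * (Q.natAbs : ℂ) * hk - ((Q.natAbs : ℂ) - 1) * hu - ((Q.natAbs : ℂ) - 1) * hu' - hS
  have hq1 : (10 : ℝ) ≤ (Q.natAbs : ℝ) - 1 := by
    have : ((11 : ℕ) : ℝ) ≤ (Q.natAbs : ℝ) := Nat.cast_le.2 hq11
    norm_num at this ⊢; linarith
  rw [div_mul_eq_mul_div, div_le_iff₀ (by nlinarith)]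
  nlinarith

/-! ### The rows -/

variable [IsSimpleGroup G] {E}

/-- The signed degrees in the Ree case. -/
theorem optionI_signs (T : E.TFam) (F : E.rowCols.Eight)
    (h : ∀ l, l ≠ 1 → F.coord (T.a1 l) = [-1, 0, -1, 0, 0] ∧ F.coord (T.a0 l) = [0, 1, 0, 1, 1]) :
    0 < Q ∧ E.sg F.A = -(Q ^ 2 - Q + 1) ∧ -E.sg F.C = Q * E.sg F.A ∧ -E.sg F.B = Q ^ 3 := by
  obtain ⟨l, hl, -⟩ := T.exists_third 1 1
  obtain ⟨hA, hB, hC, hD, hE⟩ := F.units
  have ht := Setup.eight_tv F fun l hl => Setup.gh_of_coord T F (Or.inl h) hl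
  obtain ⟨hsum, hS, hb, he⟩ := Setup.eight_cols F ht
  have r1 := (F.three (T.norm l hl).2 (T.principal l hl).2 (fun χ => (T.gal_inv l χ).2)
    (T.e0 l hl).2 (T.b0 l).2).1
  have r0 := (F.seven (T.norm l hl).1 (T.principal l hl).1 (fun χ => (T.gal_inv l χ).1)
    (T.e0 l hl).1 (T.b0 l).1).1
  obtain ⟨p1, w1⟩ := Setup.eight_single F ht (fun χ => (T.gal_inv l χ).2) (h l hl).1 r1 (T.deg l).2
    (T.tau l).2 rfl rfl rfl
  obtain ⟨-, w0⟩ := Setup.eight_single F ht (fun χ => (T.gal_inv l χ).1) (h l hl).2 r0 (T.deg l).1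
    (T.tau l).1 rfl rfl rfl
  rw [T.a1_wq hl, (T.principal l hl).2] at w1
  rw [(T.principal l hl).2] at p1
  rw [T.a0_wq hl, (T.principal l hl).1] at w0
  push_cast at p1 w1 w0
  have nA : (E.sg F.A : ℚ) ≠ 0 := Int.cast_ne_zero.2 (Setup.sg_ne _ hA)
  have nC : (E.sg F.C : ℚ) ≠ 0 := Int.cast_ne_zero.2 (Setup.sg_ne _ hC)
  have hCA : -E.sg F.C = Q * E.sg F.A := by
    have p2 : (-(E.sg F.C : ℚ) - E.sg F.A) ≠ 0 := fun e => p1 (by linear_combination e)
    have w2 : -1 / (E.sg F.A : ℚ) - (Q : ℚ) ^ 2 / (E.sg F.C : ℚ) -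
        ((Q : ℚ) - 1) ^ 2 / (-(E.sg F.C : ℚ) - E.sg F.A) = 0 := by
      rw [w1]; ring
    field_simp at w2
    have h2 : ((E.sg F.C : ℚ) + (Q : ℚ) * E.sg F.A) ^ 2 = 0 := by linear_combination w2
    have h3 : E.sg F.C + Q * E.sg F.A = 0 := by exact_mod_cast pow_eq_zero_iff two_ne_zero |>.1 h2
    linarith
  have hbig := T.Q_large'
  have hBsum : (E.sg F.B : ℚ) + 2 * E.sg F.D + 2 * E.sg F.E + 1 =
      -(E.sg F.C : ℚ) - E.sg F.A := by
    have e1 : ((1 + E.sg F.A + -E.sg F.B + -E.sg F.C : ℤ) : ℚ) = 0 := by rw [hsum]; norm_num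
    have e2 : ((-E.sg F.D + -E.sg F.E : ℤ) : ℚ) = ((1 + E.sg F.A : ℤ) : ℚ) := by rw [hS]
    push_cast at e1 e2
    linear_combination -e1 - 2 * e2
  obtain ⟨hAv, hBv, -, hQpos, -⟩ := optionI E.D.Q_mod (by omega) (Setup.sg_ne _ hA)
    (neg_ne_zero.2 (Setup.sg_ne _ hB)) (neg_ne_zero.2 (Setup.sg_ne _ hC))
    (neg_ne_zero.2 (Setup.sg_ne _ hD))
    (neg_ne_zero.2 (Setup.sg_ne _ hE)) hsum hS hCA hb he (K := E.Kq) (by
      rw [w0]; push_cast
      rw [← hBsum]
      simp only [div_neg]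
      ring)
  exact ⟨hQpos, hAv, hCA, hBv⟩

/-- The column `b` against the weights is bounded above. -/
theorem bc_upper (T : E.TFam) (y : G) : 0 < Q ∧ ∑ χ, (E.bc χ : ℝ) * fy y χ ≤
    1 + (Nat.card (Subgroup.centralizer ({y} : Set G)) : ℝ) / (Q.natAbs : ℝ) ^ 3 := by
  rcases E.rowCols.shape with ⟨⟨F₀⟩⟩ | ⟨⟨F₀⟩⟩
  swap
  · exact (Setup.four_false T F₀).elim
  obtain ⟨F, h | h⟩ := Setup.eight_kinds T F₀
  swap
  · exact (Setup.optionII_case T F h).elim
  obtain ⟨hQ, hA, hC, hB⟩ := optionI_signs T F h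
  refine ⟨hQ, ?_⟩
  obtain ⟨uA, uB, uC, -, -⟩ := F.units
  change (E.ec F.A = 1 ∨ E.ec F.A = -1) at uA
  change (E.ec F.B = 1 ∨ E.ec F.B = -1) at uB
  change (E.ec F.C = 1 ∨ E.ec F.C = -1) at uC
  have bA : E.bc F.A = E.ec F.A := by
    have := (Cols.Eight.unit_b F.eb_A (Or.inl rfl)).2; rw [one_mul] at this; exact this
  have bB : E.bc F.B = -E.ec F.B := by
    have := (Cols.Eight.unit_b F.eb_B (Or.inr rfl)).2; rw [neg_one_mul] at this; exact this
  have bC : E.bc F.C = -E.ec F.C := by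
    have := (Cols.Eight.unit_b F.eb_C (Or.inr rfl)).2; rw [neg_one_mul] at this; exact this
  have bD : E.bc F.D = 0 ∧ E.bc F.E = 0 := F.b_D
  have bτ : E.bc (E.rowCols.τ F.D) = 0 ∧ E.bc (E.rowCols.τ F.E) = 0 := by
    constructor <;> rw [show E.rowCols.τ = E.gal from rfl, E.gal_row.b]
    exacts [bD.1, bD.2]
  have sgn : ∀ χ : IrrCharacter G, (E.ec χ = 1 ∨ E.ec χ = -1) → (E.ec χ : ℝ) * fy y χ =
      Complex.normSq ((χ : G → ℂ) y) / ((E.sg χ : ℤ) : ℝ) := by
    intro χ hχ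
    have hd : ((dgi χ : ℤ) : ℝ) = (charDegree (χ : G → ℂ) : ℝ) := by rw [dgi, Int.cast_natCast]
    unfold fy Setup.sg
    rcases hχ with e | e <;> rw [e] <;> push_cast <;> rw [hd]
    · rw [one_mul, one_mul]
    · rw [neg_one_mul, neg_one_mul, div_neg]
  have hq : ((Q : ℤ) : ℝ) = (Q.natAbs : ℝ) := by
    rw [← Int.cast_natCast, Int.natAbs_of_nonneg hQ.le]
  have hR : (0 : ℝ) < (Q : ℝ) ^ 2 - Q + 1 := by nlinarith [sq_nonneg ((Q : ℝ) - 1 / 2)]
  have hQR : (0 : ℝ) < (Q : ℝ) := Int.cast_pos.2 hQ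
  have nn := fun χ : IrrCharacter G => Complex.normSq_nonneg ((χ : G → ℂ) y)
  rw [F.sum_split, Finset.sum_eq_zero (s := F.rest) fun i hi => by
    rw [show E.bc i = 0 from (F.rest_zero (F.mem_rest.1 hi)).2.1, Int.cast_zero, zero_mul],
    show E.rowCols.o = principal G from rfl, E.cols_principal.2.1, bD.1, bD.2, bτ.1, bτ.2, bA, bB, bC]
  simp only [Int.cast_one, Int.cast_zero, zero_mul, add_zero, one_mul, Int.cast_neg, neg_mul,
    sgn _ uA, sgn _ uB, sgn _ uC]
  have h0 : fy y (principal G) = 1 := by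
    unfold fy
    rw [show ((principal G : IrrCharacter G) : G → ℂ) = fun _ => 1 from rfl, CharX.charDegree_one]
    simp
  have hA' : Complex.normSq ((F.A : IrrCharacter G).1 y) / ((E.sg F.A : ℤ) : ℝ) ≤ 0 := by
    refine div_nonpos_of_nonneg_of_nonpos (nn _) ?_
    rw [hA]; push_cast; linarith
  have hC' : -(Complex.normSq ((F.C : IrrCharacter G).1 y) / ((E.sg F.C : ℤ) : ℝ)) ≤ 0 := by
    rw [← div_neg, ← Int.cast_neg, hC, hA]
    refine div_nonpos_of_nonneg_of_nonpos (nn _) ?_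
    push_cast; nlinarith
  have hB' : -(Complex.normSq ((F.B : IrrCharacter G).1 y) / ((E.sg F.B : ℤ) : ℝ)) ≤
      (Nat.card (Subgroup.centralizer ({y} : Set G)) : ℝ) / (Q.natAbs : ℝ) ^ 3 := by
    rw [← div_neg, ← Int.cast_neg, hB, Int.cast_pow, hq]
    refine div_le_div_of_nonneg_right ?_ (by positivity)
    rw [← sum_normSq y]
    exact Finset.single_le_sum (fun χ _ => nn χ) (Finset.mem_univ F.B)
  linarith

/-! ### The count -/

theorem fix_V {y u : G} (hy : E.IsY y) (huτ : u * E.τ = E.τ * u) (huσ : u * E.σ = E.σ * u)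
    (huinv : ∀ z ∈ E.Zg, u * z * u⁻¹ = z⁻¹) (hu2 : u * u = 1) (hyu : y * u = u * y)
    (hfree : ∀ z ∈ E.Zg, y * z = z * y → z = 1)
    {d : G} (hdτ : d * E.τ = E.τ * d) (hdσ : d * E.σ = E.σ * d) (hdy : y * d = d * y) :
    d = 1 ∨ d = u := by
  have hh := E.D.h_three'
  have hmove : ∀ v : G, (v = E.τ ∨ v = E.σ ∨ v = E.τ * E.σ) → y * v ≠ v * y := by
    intro v hv e
    have e' : y * v * y⁻¹ = v := by rw [e, mul_inv_cancel_right]
    have h3 : y * (E.τ * E.σ) * y⁻¹ = E.σ * (E.τ * E.σ) := by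
      rw [show y * (E.τ * E.σ) * y⁻¹ = (y * E.τ * y⁻¹) * (y * E.σ * y⁻¹) by group, hy.tau, hy.sig]
    have hστ : E.σ ≠ E.τ := fun h => c2_ne (congrArg Prod.fst (E.inj h)).symm
    have hσ1 : E.σ ≠ 1 := fun h => E.D.s_ne (congrArg Prod.snd (E.inj (h.trans (map_one E.ι).symm)))
    rcases hv with rfl | rfl | rfl
    · exact hστ (hy.tau.symm.trans e')
    · exact E.τ_ne (mul_eq_right.1 (hy.sig.symm.trans e'))
    · rw [h3] at e'
      exact hσ1 (mul_eq_right.1 e')
  -- an element centralising `V` and `y` is trivial or inverts the torus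
  have key : ∀ d : G, d * E.τ = E.τ * d → d * E.σ = E.σ * d → y * d = d * y →
      d = 1 ∨ ∀ z ∈ E.Zg, d * z * d⁻¹ = z⁻¹ := by
    intro d hdτ hdσ hdy
    obtain ⟨⟨a, l⟩, rfl⟩ := E.cent d hdτ
    have hls : l * E.D.s = E.D.s * l := by
      rw [← map_mul, ← map_mul] at hdσ
      exact congrArg Prod.snd (E.inj hdσ)
    rcases E.D.Cs_cases l (Subgroup.mem_centralizer_singleton_iff.2 hls) with h | ⟨-, -, hinv⟩
    · left
      have hnorm : Subgroup.zpowers E.D.s ≤ Subgroup.normalizer (E.D.Zh : Set L) := by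
        rw [Subgroup.zpowers_le]
        exact Subgroup.centralizer_le_normalizer _ (Subgroup.mem_centralizer_iff.2 fun z hz =>
          Subgroup.mem_centralizer_singleton_iff.1 (E.D.Zh_le hz))
      rw [← SetLike.mem_coe, Subgroup.coe_mul_of_right_le_normalizer_left _ _ hnorm] at h
      obtain ⟨z, hz, x, hx, rfl⟩ := Set.mem_mul.1 h
      have hzs : Commute z E.D.s := Subgroup.mem_centralizer_singleton_iff.1 (E.D.Zh_le hz)
      have hx2 : x = 1 ∨ x = E.D.s := by
        obtain ⟨j, rfl⟩ := Subgroup.mem_zpowers_iff.1 hx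
        rcases Int.even_or_odd' j with ⟨r, rfl | rfl⟩
        · left; rw [zpow_mul, zpow_two, E.D.s_sq, one_zpow]
        · right; rw [zpow_add, zpow_mul, zpow_two, E.D.s_sq, one_zpow, one_mul, zpow_one]
      have hsq : z * x * (z * x) = z * z := by
        rcases hx2 with rfl | rfl
        · rw [mul_one]
        · rw [show z * E.D.s * (z * E.D.s) = z * (E.D.s * z) * E.D.s by group, ← hzs.eq,
            show z * (z * E.D.s) * E.D.s = z * z * (E.D.s * E.D.s) by group, E.D.s_sq, mul_one]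
      have hc2 : E.ι (a, z * x) * E.ι (a, z * x) = E.ι (1, z * z) := by
        rw [← map_mul, Prod.mk_mul_mk, C2_sq, hsq]
      have hz2 := hfree _ (E.mem_Zg.2 ⟨z * z, mul_mem hz hz, rfl⟩) (by
        rw [← hc2, ← mul_assoc, hdy, mul_assoc, hdy, ← mul_assoc])
      rw [← map_one E.ι] at hz2
      have hz2' : z * z = 1 := congrArg Prod.snd (E.inj hz2)
      have hz1 : z = 1 := orderOf_eq_one_iff.1 (Nat.eq_one_of_dvd_coprimes
        ((Nat.coprime_two_right).2 E.D.h_odd) (E.D.card_Zh ▸ Subgroup.orderOf_dvd_natCard _ hz)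
        (orderOf_dvd_of_pow_eq_one (by rw [pow_two]; exact hz2')))
      subst hz1
      rw [one_mul] at hdy ⊢
      by_contra hne
      refine hmove _ ?_ hdy
      rcases hx2 with rfl | rfl <;> rcases C2_cases a with rfl | rfl
      · exact absurd (by rw [Prod.mk_one_one, map_one]) hne
      · exact Or.inl rfl
      · exact Or.inr (Or.inl rfl)
      · refine Or.inr (Or.inr ?_)
        rw [← map_mul, Prod.mk_mul_mk, mul_one, one_mul]
    · right
      intro g hg
      obtain ⟨z, hz, rfl⟩ := E.mem_Zg.1 hg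
      rw [← map_inv, ← map_inv, ← map_mul, ← map_mul]
      refine congrArg E.ι (Prod.ext ?_ (hinv z hz))
      show a * 1 * a⁻¹ = 1⁻¹
      rw [mul_one, mul_inv_cancel, inv_one]
  rcases key d hdτ hdσ hdy with h | h
  · exact Or.inl h
  right
  rcases key (d * u) ((show Commute d E.τ from hdτ).mul_left huτ)
    ((show Commute d E.σ from hdσ).mul_left huσ) ((show Commute y d from hdy).mul_right hyu) with h' | h'
  · rw [← inv_eq_of_mul_eq_one_left h']
    exact inv_eq_of_mul_eq_one_right hu2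
  · exfalso
    haveI : Nontrivial E.D.Zh := Finite.one_lt_card_iff_nontrivial.1 (by rw [E.D.card_Zh]; omega)
    obtain ⟨z, hz⟩ := exists_ne (1 : E.D.Zh)
    exact hz (by
      have hg : E.ι (1, (z : L)) ∈ E.Zg := E.mem_Zg.2 ⟨z, z.2, rfl⟩
      have e := h' _ hg
      rw [show d * u * E.ι (1, (z : L)) * (d * u)⁻¹ = d * (u * E.ι (1, (z : L)) * u⁻¹) * d⁻¹ by group,
        huinv _ hg, show d * (E.ι (1, (z : L)))⁻¹ * d⁻¹ = (d * E.ι (1, (z : L)) * d⁻¹)⁻¹ by group,
        h _ hg, inv_inv, ← map_inv] at e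
      have e' : (z : L) = (z : L)⁻¹ := congrArg Prod.snd (E.inj e)
      have hz2 : (z : L) * z = 1 := by nth_rewrite 1 [e']; rw [inv_mul_cancel]
      refine Subtype.ext (orderOf_eq_one_iff.1 (Nat.eq_one_of_dvd_coprimes
        ((Nat.coprime_two_right).2 E.D.h_odd) (E.D.card_Zh ▸ Subgroup.orderOf_dvd_natCard _ z.2)
        (orderOf_dvd_of_pow_eq_one (by rw [pow_two]; exact hz2)))))

/-- There are at least `|L|` pairs. -/
theorem card_pairs_ge {y u : G} (hy : E.IsY y) (huτ : u * E.τ = E.τ * u) (huσ : u * E.σ = E.σ * u)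
    (huinv : ∀ z ∈ E.Zg, u * z * u⁻¹ = z⁻¹) (hu2 : u * u = 1) (hyu : y * u = u * y)
    (hfree : ∀ z ∈ E.Zg, y * z = z * y → z = 1) :
    Nat.card L ≤ Nat.card {a : G // IsConj y a ∧ IsConj y⁻¹ (a⁻¹ * E.τ⁻¹)} := by
  set P : G → Prop := fun v => v = E.τ ∨ v = E.σ ∨ v = E.τ * E.σ with hP
  have hτσ : Commute E.τ E.σ := (E.τ_comm _).symm
  have hτi : E.τ⁻¹ = E.τ := inv_eq_of_mul_eq_one_right E.τ_sq
  have hσσ : E.σ * E.σ = 1 := by
    rw [← map_mul, Prod.mk_mul_mk, E.D.s_sq, one_mul, Prod.mk_one_one, map_one]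
  have h3 : y * (E.τ * E.σ) * y⁻¹ = E.τ := by
    rw [show y * (E.τ * E.σ) * y⁻¹ = (y * E.τ * y⁻¹) * (y * E.σ * y⁻¹) by group, hy.tau, hy.sig,
      hτσ.eq, ← mul_assoc, hσσ, one_mul]
  have hPy : ∀ v, P v → P (y * v * y⁻¹) := by
    rintro v (rfl | rfl | rfl)
    exacts [Or.inr (Or.inl hy.tau), Or.inr (Or.inr hy.sig), Or.inl h3]
  -- conjugates of `y` under `V`
  have hconj : ∀ v, P v → IsConj y (v * y) := by
    have step : ∀ w : G, w * w = 1 → IsConj y (w * (y * w * y⁻¹) * y) := fun w hw => by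
      refine isConj_iff.2 ⟨w, ?_⟩
      rw [inv_eq_of_mul_eq_one_right hw]; group
    rintro v (rfl | rfl | rfl)
    · have h := step E.σ hσσ
      rw [hy.sig, hτσ.eq, ← mul_assoc, hσσ, one_mul] at h
      exact h
    · have h := step (E.τ * E.σ) (by
        rw [show E.τ * E.σ * (E.τ * E.σ) = E.τ * (E.σ * E.τ) * E.σ by group, ← hτσ.eq,
          show E.τ * (E.τ * E.σ) * E.σ = (E.τ * E.τ) * (E.σ * E.σ) by group, E.τ_sq, hσσ, one_mul])
      rw [h3, hτσ.eq, mul_assoc E.σ E.τ E.τ, E.τ_sq, mul_one] at h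
      exact h
    · have h := step E.τ E.τ_sq
      rw [hy.tau] at h
      exact h
  let M : Finset G := Finset.univ.filter fun g => P (g⁻¹ * E.τ * g)
  let φ : G → G := fun g => g * y * g⁻¹
  have hMA : M.image φ ⊆
      Finset.univ.filter fun a => IsConj y a ∧ IsConj y⁻¹ (a⁻¹ * E.τ⁻¹) := by
    intro a ha
    obtain ⟨g, hg, rfl⟩ := Finset.mem_image.1 ha
    refine Finset.mem_filter.2 ⟨Finset.mem_univ _, isConj_iff.2 ⟨g, rfl⟩, ?_⟩
    obtain ⟨c, hc⟩ := isConj_iff.1 (hconj _ (Finset.mem_filter.1 hg).2)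
    refine isConj_iff.2 ⟨g * c, ?_⟩
    have e : g * c * y * (g * c)⁻¹ = E.τ * (g * y * g⁻¹) := by
      calc g * c * y * (g * c)⁻¹ = g * (c * y * c⁻¹) * g⁻¹ := by group
        _ = g * (g⁻¹ * E.τ * g * y) * g⁻¹ := by rw [hc]
        _ = _ := by group
    calc g * c * y⁻¹ * (g * c)⁻¹ = (g * c * y * (g * c)⁻¹)⁻¹ := by group
      _ = _ := by rw [e, mul_inv_rev]
  -- the size of `M`
  have hy1 : y * E.τ ≠ E.τ * y := fun e => c2_ne (congrArg Prod.fst (E.inj
    (((mul_inv_eq_iff_eq_mul.2 e).symm.trans hy.tau)))).symm.symm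
  have hy3 : y ^ 3 = 1 := hy.cube
  have hM : 3 * (2 * Nat.card L) ≤ M.card := by
    rw [← E.card_cent_τ, mul_comm, Nat.card_eq_fintype_card, ← Fintype.card_fin 3,
      ← Fintype.card_prod, ← Finset.card_univ]
    refine Finset.card_le_card_of_injOn (fun p => (p.1 : G) * y ^ (p.2 : ℕ)) ?_ ?_
    · rintro ⟨c, i⟩ -
      refine Finset.mem_filter.2 ⟨Finset.mem_univ _, ?_⟩
      have hc : (c : G)⁻¹ * E.τ * c = E.τ := by
        rw [mul_assoc, ← Subgroup.mem_centralizer_singleton_iff.1 c.2, inv_mul_cancel_left]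
      have hit : ∀ n : ℕ, P ((y ^ n) * E.τ * (y ^ n)⁻¹) := fun n => by
        induction n with
        | zero => exact Or.inl (by simp)
        | succ n ih =>
          have := hPy _ ih
          rwa [show y * (y ^ n * E.τ * (y ^ n)⁻¹) * y⁻¹ = y ^ (n + 1) * E.τ * (y ^ (n + 1))⁻¹ by
            rw [pow_succ']; group] at this
      show P (((c : G) * y ^ (i : ℕ))⁻¹ * E.τ * ((c : G) * y ^ (i : ℕ)))
      rw [show ((c : G) * y ^ (i : ℕ))⁻¹ * E.τ * ((c : G) * y ^ (i : ℕ)) =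
        (y ^ (i : ℕ))⁻¹ * ((c : G)⁻¹ * E.τ * c) * y ^ (i : ℕ) by group, hc]
      have hinv : (y ^ (i : ℕ))⁻¹ = y ^ (2 * (i : ℕ)) :=
        inv_eq_of_mul_eq_one_right (by rw [← pow_add, show (i : ℕ) + 2 * i = 3 * i by ring, pow_mul, hy3, one_pow])
      have h := hit (2 * (i : ℕ))
      rwa [← hinv, inv_inv] at h
    · rintro ⟨c, i⟩ - ⟨c', j⟩ - e
      have key : ∀ (c c' : Subgroup.centralizer ({E.τ} : Set G)) (i j : ℕ), i ≤ j → j < 3 →
          (c : G) * y ^ i = c' * y ^ j → i = j := by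
        intro c c' i j hij hj e
        obtain ⟨d, rfl⟩ := Nat.exists_eq_add_of_le hij
        have hd : y ^ d ∈ Subgroup.centralizer ({E.τ} : Set G) := by
          have : y ^ d = (c' : G)⁻¹ * c := by
            rw [eq_inv_mul_iff_mul_eq]
            rw [add_comm, pow_add, ← mul_assoc] at e
            exact (mul_right_cancel e).symm
          rw [this]; exact mul_mem (inv_mem c'.2) c.2
        rcases d with _ | _ | _ | d
        · rfl
        · exact absurd (by rw [pow_one] at hd; exact Subgroup.mem_centralizer_singleton_iff.1 hd) hy1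
        · refine absurd ?_ hy1
          have h4 := mul_mem hd hd
          rw [← pow_add, show 2 + 2 = 3 + 1 from rfl, pow_succ, hy3, one_mul] at h4
          exact Subgroup.mem_centralizer_singleton_iff.1 h4
        · omega
      have hij : (i : ℕ) = j := by
        rcases le_total (i : ℕ) j with h | h
        exacts [key c c' i j h j.2 e, (key c' c j i h i.2 e.symm).symm]
      simp only [hij] at e
      exact Prod.ext (Subtype.ext (mul_right_cancel e)) (Fin.ext hij)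
  -- the fibres
  let six : Finset G := {1, u, y, u * y, y * y, u * (y * y)}
  have hfib : ∀ a ∈ M.image φ, (M.filter fun g => φ g = a).card ≤ 6 := by
    intro a ha
    obtain ⟨g₀, hg₀, rfl⟩ := Finset.mem_image.1 ha
    refine le_trans (Finset.card_le_card (t := six.image (g₀ * ·)) fun g hg => ?_)
      (Finset.card_image_le.trans Finset.card_le_six)
    obtain ⟨hgM, he⟩ := Finset.mem_filter.1 hg
    set c := g₀⁻¹ * g with hc
    have hcy : y * c = c * y := by
      have h := congrArg (fun t => g₀⁻¹ * t * g) he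
      simp only [φ] at h
      rw [hc]
      calc y * (g₀⁻¹ * g) = g₀⁻¹ * (g₀ * y * g₀⁻¹) * g := by group
        _ = g₀⁻¹ * (g * y * g⁻¹) * g := h.symm
        _ = _ := by group
    set v₀ := g₀⁻¹ * E.τ * g₀
    have hv₀ : P v₀ := (Finset.mem_filter.1 hg₀).2
    have hv₁ : P (c⁻¹ * v₀ * c) := by
      rw [show c⁻¹ * v₀ * c = g⁻¹ * E.τ * g by simp only [hc, v₀]; group]
      exact (Finset.mem_filter.1 hgM).2
    -- `c` permutes the three involutions
    have comm : ∀ v : G, c⁻¹ * (y * v * y⁻¹) * c = y * (c⁻¹ * v * c) * y⁻¹ := fun v => by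
      have h1 : c⁻¹ * y = y * c⁻¹ := by
        rw [inv_mul_eq_iff_eq_mul, ← mul_assoc, ← hcy, mul_inv_cancel_right]
      have h2 : y⁻¹ * c = c * y⁻¹ := by
        rw [inv_mul_eq_iff_eq_mul, ← mul_assoc, hcy, mul_inv_cancel_right]
      calc c⁻¹ * (y * v * y⁻¹) * c = (c⁻¹ * y) * v * (y⁻¹ * c) := by group
        _ = _ := by rw [h1, h2]; group
    have hall : P (c⁻¹ * E.τ * c) := by
      rcases hv₀ with h | h | h <;> rw [h] at hv₁
      · exact hv₁
      · have := hPy _ (hPy _ hv₁)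
        rwa [← comm, ← comm, hy.sig, h3] at this
      · have := hPy _ hv₁
        rwa [← comm, h3] at this
    obtain ⟨i, hi, hci⟩ : ∃ i : ℕ, i < 3 ∧ c⁻¹ * E.τ * c = y ^ i * E.τ * (y ^ i)⁻¹ := by
      rcases hall with h | h | h
      · exact ⟨0, by norm_num, by rw [h]; simp⟩
      · exact ⟨1, by norm_num, by rw [h, pow_one, hy.tau]⟩
      · refine ⟨2, by norm_num, ?_⟩
        rw [h, show y ^ 2 * E.τ * (y ^ 2)⁻¹ = y * (y * E.τ * y⁻¹) * y⁻¹ by rw [pow_two]; group, hy.tau, hy.sig]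
    set d := c * y ^ i with hd
    have hdy : y * d = d * y := (show Commute y c from hcy).mul_right (Commute.pow_self y i).symm
    have hdτ : d * E.τ = E.τ * d := by
      have := congrArg (fun t => c * t * y ^ i) hci
      rw [hd]
      calc c * y ^ i * E.τ = c * (y ^ i * E.τ * (y ^ i)⁻¹) * y ^ i := by group
        _ = c * (c⁻¹ * E.τ * c) * y ^ i := this.symm
        _ = _ := by group
    have hdσ : d * E.σ = E.σ * d := by
      rw [← hy.tau]
      exact ((show Commute d y from hdy.symm).mul_right hdτ).mul_right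
        (show Commute d y from hdy.symm).inv_right
    refine Finset.mem_image.2 ⟨c, ?_, by rw [hc]; exact mul_inv_cancel_left g₀ g⟩
    have hce : c = d * y ^ (2 * i) := by
      rw [hd, mul_assoc, ← pow_add, show i + 2 * i = 3 * i by ring, pow_mul, hy3, one_pow, mul_one]
    simp only [six, Finset.mem_insert, Finset.mem_singleton]
    rcases fix_V hy huτ huσ huinv hu2 hyu hfree hdτ hdσ hdy with h | h <;> rw [h] at hce <;>
      interval_cases i
    · left; simpa using hce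
    · right; right; right; right; left; rw [hce, one_mul, pow_two]
    · right; right; left
      rw [hce, one_mul, show 2 * 2 = 3 + 1 from rfl, pow_succ, hy3, one_mul]
    · right; left; simpa using hce
    · right; right; right; right; right; rw [hce, pow_two]
    · right; right; right; left
      rw [hce, show 2 * 2 = 3 + 1 from rfl, pow_succ, hy3, one_mul]
  have h6 := Finset.card_le_mul_card_image M 6 hfib
  have hA := Finset.card_le_card hMA
  rw [← Fintype.card_subtype, ← Nat.card_eq_fintype_card] at hA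
  omega

/-- A Sylow 3-subgroup of a group of the Janko–Thompson setup is non-abelian. -/
theorem false_of_abelian_three (E : Setup G L Q)
    (hA : ∀ P : Sylow 3 G, IsMulCommutative (P : Subgroup G)) : False := by
  haveI : Fact (Nat.Prime 3) := ⟨Nat.prime_three⟩
  obtain ⟨y, u, hy, hu2, hu1, huτ, huσ, huinv, hyu⟩ := E.exists_isY
  have hfree := Setup.free_of_setup E hy hu2 hu1 huτ huσ huinv hyu
  obtain ⟨T⟩ := E.exists_tfam hy hu2 huτ huσ huinv hfree
  obtain ⟨m, -, hq, hG⟩ := T.order_formula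
  obtain ⟨hQ, hup⟩ := bc_upper T y
  set C := Nat.card (Subgroup.centralizer ({y} : Set G)) with hC
  set q := Q.natAbs with hqd
  rw [← hq] at hG
  -- the centraliser of `y`
  have hC2 : 2 * q ^ 3 ∣ C := by
    refine Nat.Coprime.mul_dvd_of_dvd_of_dvd ?_ ?_ ?_
    · rw [hq]; exact Nat.Coprime.pow_right _ (Nat.Coprime.pow_right _ (by norm_num))
    · have ho : orderOf u = 2 := orderOf_eq_prime (by rw [pow_two, hu2]) hu1
      exact ho ▸ Subgroup.orderOf_dvd_natCard _ (Subgroup.mem_centralizer_singleton_iff.2 hyu.symm)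
    · have hy1 : y ≠ 1 := fun e => by
        have h := hy.tau
        rw [e, one_mul, inv_one, mul_one] at h
        exact c2_ne (congrArg Prod.fst (E.inj h))
      obtain ⟨P, hP⟩ := (IsPGroup.of_card (p := 3) (n := 1) (G := Subgroup.zpowers y) (by
        rw [Nat.card_zpowers, pow_one, orderOf_eq_prime hy.cube hy1])).exists_le_sylow
      have hle : (P : Subgroup G) ≤ Subgroup.centralizer ({y} : Set G) := fun x hx =>
        Subgroup.mem_centralizer_singleton_iff.2 (congrArg Subtype.val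
          ((hA P).is_comm.comm ⟨x, hx⟩ ⟨y, hP (Subgroup.mem_zpowers y)⟩))
      refine dvd_trans ?_ (Subgroup.card_dvd_of_le hle)
      rw [hq, ← pow_mul]
      refine P.pow_dvd_card_of_pow_dvd_card ?_
      rw [pow_mul, ← hq, hG, mul_assoc]
      exact dvd_mul_right _ _
  have hlow := bc_lower E y hQ
  have hN := card_pairs_ge hy huτ huσ huinv hu2 hyu hfree
  have hLc : 2 * (Nat.card L : ℝ) = (q : ℝ) * ((q : ℝ) ^ 2 - 1) := by
    have h := congrArg (Nat.cast (R := ℝ)) E.D.card_L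
    have h1 : 1 ≤ q ^ 2 := Nat.one_le_pow _ _ (by have := E.D.Q_large; omega)
    rw [← hqd] at h
    push_cast [Nat.cast_sub h1] at h
    exact h
  have hq11 : (11 : ℝ) ≤ q := by exact_mod_cast E.D.Q_large
  have hGR : (Nat.card G : ℝ) = (q : ℝ) ^ 3 * ((q : ℝ) ^ 3 + 1) * ((q : ℝ) - 1) := by
    rw [hG]; push_cast [Nat.cast_sub (show 1 ≤ q by have := E.D.Q_large; omega)]; ring
  obtain ⟨j, hj⟩ := hC2
  have hj0 : 1 ≤ j := by
    rcases Nat.eq_zero_or_pos j with rfl | h
    · rw [mul_zero] at hj; exact absurd hj Nat.card_pos.ne'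
    · exact h
  set N := (Nat.card {a : G // IsConj y a ∧ IsConj y⁻¹ (a⁻¹ * E.τ⁻¹)} : ℝ) with hNd
  have hNR : (Nat.card L : ℝ) ≤ N := Nat.cast_le.2 hN
  have hwt : wt y E.τ = N * (C : ℝ) ^ 2 / (Nat.card G : ℝ) := rfl
  set x : ℝ := 2 * (j : ℝ) with hx
  have hCR : (C : ℝ) = x * (q : ℝ) ^ 3 := by rw [hj]; push_cast; ring
  have hx2 : 2 ≤ x := by
    have : (1 : ℝ) ≤ j := by exact_mod_cast hj0
    linarith
  have hq3 : (0 : ℝ) < (q : ℝ) ^ 3 := by positivity
  have hqm : (0 : ℝ) < (q : ℝ) - 1 := by linarith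
  have hGpos : (0 : ℝ) < (Nat.card G : ℝ) := by exact_mod_cast Nat.card_pos
  have h1 : x ^ 2 ≤ 2 / ((q : ℝ) * ((q : ℝ) - 1)) * wt y E.τ := by
    rw [hwt, hCR, hGR]
    have h2 : (q : ℝ) * ((q : ℝ) ^ 2 - 1) / 2 ≤ N := by linarith
    calc x ^ 2 ≤ x ^ 2 * ((q : ℝ) ^ 3 * ((q : ℝ) + 1) / (((q : ℝ) ^ 3 + 1) * ((q : ℝ) - 1))) := by
          refine le_mul_of_one_le_right (sq_nonneg x) ?_
          rw [le_div_iff₀ (by positivity)]
          nlinarith
      _ = 2 / ((q : ℝ) * ((q : ℝ) - 1)) * ((q : ℝ) * ((q : ℝ) ^ 2 - 1) / 2 * (x * (q : ℝ) ^ 3) ^ 2 /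
            ((q : ℝ) ^ 3 * ((q : ℝ) ^ 3 + 1) * ((q : ℝ) - 1))) := by
          field_simp
          ring
      _ ≤ _ := by gcongr
  have h2 : ∑ χ, (E.bc χ : ℝ) * fy y χ ≤ 1 + x := by
    refine hup.trans (le_of_eq ?_)
    rw [hCR, mul_div_cancel_right₀ _ hq3.ne']
  nlinarith

end Cfsg.Agent.AllAbelian

namespace Cfsg.Agent.AllAbelian

open Cfsg

universe u v

/-- The Janko–Thompson theorem with abelian Sylow 3-subgroups: only the Janko order is left. -/
theorem isJ1_of_abelian {G : Type u} [Group G] [Finite G] [IsSimpleGroup G]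
    (hab : ∀ P : Sylow 2 G, ∀ a b : P, a * b = b * a)
    (hA : ∀ P : Sylow 3 G, IsMulCommutative (P : Subgroup G))
    {F : Type v} [Field F] [Fintype F] (hq : 3 ≤ Fintype.card F) (t : G) (ht : orderOf t = 2)
    (hC : Nonempty (Subgroup.centralizer ({t} : Set G) ≃*
      Multiplicative (ZMod 2) × Matrix.ProjectiveSpecialLinearGroup (Fin 2) F)) :
    (Fintype.card F = 4 ∨ Fintype.card F = 5) ∧ Cfsg.IsJ1 G := by
  classical
  obtain ⟨e⟩ := hC
  rcases JanThom.reduce hab hq t ht ⟨e⟩ with h | ⟨h8, h11⟩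
  · exact h
  haveI := Fintype.ofFinite G
  obtain ⟨Q, hQ, ⟨E⟩⟩ := JanThom.exists_setup hab ht h8 h11 e
  haveI := E.finite_L
  haveI := Fintype.ofFinite (Matrix.ProjectiveSpecialLinearGroup (Fin 2) F)
  exact (false_of_abelian_three E hA).elim

end Cfsg.Agent.AllAbelian
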