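import Cfsg.Agent.Lib.AllAbelian.Final
import Cfsg.Agent.Lib.AllAbelian.Ree
import Cfsg.Agent.Lib.JankoOne.IsoJ1
import Cfsg.Agent.Lib.Walter4.AllAbelian

/-!
A simple group of Ree–Janko type with all Sylow subgroups abelian is J₁.
-/

set_option autoImplicit false
set_option linter.unusedSectionVars false
set_option linter.style.haveILetI false

namespace Cfsg.Agent.AllAbelian

open Subgroup
open Cfsg.Agent.Walter8 (Eight LType cen)

universe u

variable {G : Type u} [Group G] [Finite G] [IsSimpleGroup G]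

/-- There is no field part. -/
theorem fld_trivial (hna : ¬ IsMulCommutative G) (hW : Walter4.GoodStmt.{u})
    (hA : ∀ l : ℕ, l.Prime → ∀ P : Sylow l G, IsMulCommutative P)
    (hJ : ∀ (X : Type u) [Group X] [Finite X], Nat.card X < Nat.card G → IsSimpleGroup X →
      ¬ IsMulCommutative X → Walter4.RJType X → (∀ l, l.Prime → ∀ T : Sylow l X, IsMulCommutative T) →
      Cfsg.Spor.IsoJ1 X)
    {S : Sylow 2 G} (hE : Eight (S : Subgroup G)) (hL : LType (S : Subgroup G))
    (hcore : ∀ a ∈ (S : Subgroup G), a ≠ 1 → ClosedAbelian.core (cen a) = ⊥)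
    {a : G} {F : Type} [Field F] [Fintype F] {L : Subgroup G} (D : Loc S a F L) :
    ∀ g, D.fld g = 1 := by
  by_contra h
  push Not at h
  obtain ⟨p, x, hp, h5, hord, hxC, hnd⟩ := D.exists_central hE hA h
  haveI := Fact.mk hp
  refine Ctx.false_of_ctx (S := S) (p := p) (x := x)
    ⟨hE, h5, hord, hxC, fun n hn => D.normalizer_comm hE hn hxC (hord ▸ hp.odd_of_ne_two (by omega)), ?_, ?_⟩
    hna hA hW hJ
  · intro t ht ht1 X hX hXt
    obtain ⟨n, -, hn⟩ := hE.trans t ht ht1 a D.mem D.ne
    have hle : X.map (MulAut.conj n).toMonoidHom ≤ cen a := by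
      rintro _ ⟨z, hz, rfl⟩
      refine mem_centralizer_singleton_iff.2 ?_
      show n * z * n⁻¹ * a = a * (n * z * n⁻¹)
      rw [← hn, show n * z * n⁻¹ * (n * t * n⁻¹) = n * (z * t) * n⁻¹ by group,
        mem_centralizer_singleton_iff.1 (hXt hz)]
      group
    exact (X.equivMapOfInjective (MulAut.conj n).toMonoidHom (MulAut.conj n).injective).isCyclic.2
      (D.cyclic_of hE (by omega) hnd (hX.map _) hle)
  · intro v hv hv1 R hR hRo hSR y hy hyR hyv hyc
    obtain ⟨F', _, _, L', D'⟩ := exists_loc hL hcore hv hv1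
    exact D'.odd_le_centralizer hE hL (hcore v hv hv1) hR hRo hSR hy hyR hyv hyc

/-- A simple group of Ree–Janko type with all Sylow subgroups abelian is J₁. -/
theorem isoJ1_of_rjType (hW : Walter4.GoodStmt.{u}) {G : Type u} [Group G] [Finite G] [IsSimpleGroup G]
    (hna : ¬ IsMulCommutative G) (hG : Walter4.RJType G)
    (hA : ∀ p, p.Prime → ∀ P : Sylow p G, IsMulCommutative P) : Cfsg.Spor.IsoJ1 G := by
  induction hn : Nat.card G using Nat.strong_induction_on generalizing G with
  | _ m ih =>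
  subst hn
  obtain ⟨-, S, hE, hL, hcore⟩ := hG
  obtain ⟨a, ha, ha1⟩ := hE.exists_out (T := {1}) (by rw [Set.ncard_singleton]; norm_num)
  have ha1 : a ≠ 1 := ha1
  obtain ⟨F, _, _, L, D⟩ := exists_loc hL hcore ha ha1
  have htriv := fld_trivial hna hW hA
    (fun X _ _ hX hs hnc hRJ hAX => ih _ hX (G := X) hnc hRJ hAX rfl) hE hL hcore D
  have h := isJ1_of_abelian (fun P u v => (hA 2 Nat.prime_two P).is_comm.comm u v) (hA 3 Nat.prime_three)
    (F := F) (by have := D.three; omega) a (hE.order_two ha ha1) (D.equiv_of_trivial hE htriv)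
  exact JankoOne.isoJ1_of_isJ1 h.2

/-- The statement used for the simple groups with all Sylow subgroups abelian. -/
theorem rjAbelianStmt (hW : Walter4.GoodStmt.{u}) : Walter4.RJAbelianStmt.{u} :=
  fun _ _ _ hs hna hG hA => haveI := hs; isoJ1_of_rjType hW hna hG hA

end Cfsg.Agent.AllAbelian
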